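import Mathlib
import Cfsg.Agent.Lib.Small.ClassNumberSp2.NonUnip

/-!
Invariant quadratic forms in characteristic two and their Gauss sums.
-/

set_option autoImplicit false
set_option linter.unusedSectionVars false
set_option linter.style.haveILetI false

namespace Cfsg.Agent.Small.SpEven

universe u v w

variable {F : Type u} [Field F] [Fintype F] [CharP F 2]

open scoped Classical in
/-- the additive character of order two -/
noncomputable def chi (t : F) : ℤ := if ∃ c : F, c ^ 2 + c = t then 1 else -1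

theorem chi_eq_one {t : F} (h : ∃ c : F, c ^ 2 + c = t) : chi t = 1 := by simp [chi, h]

theorem chi_eq_neg_one {t : F} (h : ∀ c : F, c ^ 2 + c ≠ t) : chi t = -1 := by
  have : ¬ ∃ c : F, c ^ 2 + c = t := fun ⟨c, hc⟩ => h c hc
  simp [chi, this]

theorem chi_zero : chi (0 : F) = 1 := chi_eq_one ⟨0, by ring⟩

theorem chi_delta : chi (delta F) = -1 := chi_eq_neg_one delta_spec

theorem chi_add (a b : F) : chi (a + b) = chi a * chi b := by
  by_cases ha : ∃ c : F, c ^ 2 + c = a
  · obtain ⟨c, hc⟩ := ha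
    by_cases hb : ∃ d : F, d ^ 2 + d = b
    · obtain ⟨d, hd⟩ := hb
      rw [chi_eq_one ⟨c, hc⟩, chi_eq_one ⟨d, hd⟩, chi_eq_one ⟨c + d, by rw [CharTwo.add_sq, ← hc, ← hd]; ring⟩]
      ring
    · rw [chi_eq_one ⟨c, hc⟩, chi_eq_neg_one fun d hd => hb ⟨d, hd⟩, chi_eq_neg_one fun e he => hb ⟨e + c, by
        rw [CharTwo.add_sq]
        linear_combination he + hc + a * CharTwo.two_eq_zero (R := F)⟩]
      ring
  · by_cases hb : ∃ d : F, d ^ 2 + d = b
    · obtain ⟨d, hd⟩ := hb
      rw [chi_eq_neg_one fun c hc => ha ⟨c, hc⟩, chi_eq_one ⟨d, hd⟩, chi_eq_neg_one fun e he => ha ⟨e + d, by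
        rw [CharTwo.add_sq]
        linear_combination he + hd + b * CharTwo.two_eq_zero (R := F)⟩]
      ring
    · obtain ⟨c, hc⟩ := artin_schreier a fun c hc => ha ⟨c, hc⟩
      obtain ⟨d, hd⟩ := artin_schreier b fun d hd => hb ⟨d, hd⟩
      rw [chi_eq_neg_one fun c hc => ha ⟨c, hc⟩, chi_eq_neg_one fun d hd => hb ⟨d, hd⟩, chi_eq_one ⟨c + d, by
        rw [CharTwo.add_sq]
        linear_combination hc + hd + delta F * CharTwo.two_eq_zero (R := F)⟩]
      ring

theorem chi_sq (t : F) : chi (t ^ 2) = chi t := by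
  have h : t ^ 2 = (t ^ 2 + t) + t := by rw [add_assoc, CharTwo.add_self_eq_zero, add_zero]
  rw [h, chi_add, chi_eq_one ⟨t, rfl⟩, one_mul]

theorem sum_chi : ∑ t : F, chi t = 0 := by
  have h : ∑ t : F, chi (t + delta F) = ∑ t : F, chi t := Equiv.sum_comp (Equiv.addRight (delta F)) chi
  simp only [chi_add, chi_delta, mul_neg, mul_one, Finset.sum_neg_distrib] at h
  omega

theorem sum_chi_sq {α : F} (hα : α ≠ 0) : ∑ a : F, chi (α * a ^ 2) = 0 := by
  refine Eq.trans ?_ (sum_chi (F := F))
  refine Fintype.sum_bijective (fun a => α * a ^ 2) ?_ _ _ fun a => rfl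
  refine Finite.injective_iff_bijective.1 fun a b h => ?_
  exact frobenius_inj F 2 (by simpa [frobenius_def] using mul_left_cancel₀ hα h)

/-- The character sum of a binary form. -/
theorem sum_plane (α β : F) :
    ∑ a : F, ∑ b : F, chi (α * a ^ 2 + a * b + β * b ^ 2) = (Fintype.card F : ℤ) * chi (α * β) := by
  classical
  by_cases hα : α = 0
  · subst hα
    rw [Finset.sum_comm, Finset.sum_eq_single (0 : F)]
    · simp [chi_zero]
    · intro b _ hb
      have h : ∀ a : F, (0 : F) * a ^ 2 + a * b + β * b ^ 2 = a * b + β * b ^ 2 := fun a => by ring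
      simp only [h, chi_add, ← Finset.sum_mul]
      have : ∑ a : F, chi (a * b) = 0 := by
        refine Eq.trans ?_ (sum_chi (F := F))
        exact Fintype.sum_bijective (fun a => a * b)
          (Finite.injective_iff_bijective.1 fun x y h => mul_right_cancel₀ hb h) _ _ fun a => rfl
      rw [this, zero_mul]
    · exact fun h => absurd (Finset.mem_univ _) h
  rw [Finset.sum_comm]
  have hrow : ∀ b : F, b ≠ 0 → ∑ a : F, chi (α * a ^ 2 + a * b + β * b ^ 2) =
      ∑ t : F, chi ((α * t ^ 2 + t + β) * b ^ 2) := by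
    intro b hb
    refine (Fintype.sum_bijective (fun t => t * b)
      (Finite.injective_iff_bijective.1 fun x y h => mul_right_cancel₀ hb h) _ _ fun t => ?_).symm
    ring_nf
  have hinner : ∀ u : F, ∑ b : F, chi (u * b ^ 2) = if u = 0 then (Fintype.card F : ℤ) else 0 := by
    intro u
    split_ifs with h
    · simp [h, chi_zero]
    · exact sum_chi_sq h
  have hsplit : ∀ f : F → ℤ, ∑ b : F, f b = f 0 + ∑ b ∈ Finset.univ.erase (0 : F), f b := fun f =>
    (Finset.add_sum_erase _ f (Finset.mem_univ _)).symm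
  rw [hsplit]
  have h0 : ∑ a : F, chi (α * a ^ 2 + a * 0 + β * 0 ^ 2) = 0 := by simpa using sum_chi_sq hα
  rw [h0, zero_add, Finset.sum_congr rfl fun b hb => hrow b (Finset.ne_of_mem_erase hb), Finset.sum_comm]
  have hterm : ∀ t : F, ∑ b ∈ Finset.univ.erase (0 : F), chi ((α * t ^ 2 + t + β) * b ^ 2) =
      (if α * t ^ 2 + t + β = 0 then (Fintype.card F : ℤ) else 0) - 1 := by
    intro t
    have h := hsplit fun b => chi ((α * t ^ 2 + t + β) * b ^ 2)
    rw [hinner, show chi ((α * t ^ 2 + t + β) * (0 : F) ^ 2) = 1 by simp [chi_zero]] at h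
    linarith
  rw [Finset.sum_congr rfl fun t _ => hterm t, Finset.sum_sub_distrib, ← Finset.sum_filter, Finset.sum_const,
    Finset.sum_const, Finset.card_univ]
  have hroot : ∀ t : F, α * t ^ 2 + t + β = 0 ↔ (α * t) ^ 2 + α * t = α * β := by
    intro t
    constructor
    · intro h
      linear_combination α * h - α * β * CharTwo.two_eq_zero (R := F)
    · intro h
      have h2 : α * (α * t ^ 2 + t + β) = 0 := by
        linear_combination h + α * β * CharTwo.two_eq_zero (R := F)
      exact (mul_eq_zero.1 h2).resolve_left hα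
  by_cases hs : ∃ c : F, c ^ 2 + c = α * β
  · obtain ⟨c, hc⟩ := hs
    have hset : (Finset.univ.filter fun t : F => α * t ^ 2 + t + β = 0) = {c / α, (c + 1) / α} := by
      ext t
      simp only [Finset.mem_filter, Finset.mem_univ, true_and, Finset.mem_insert, Finset.mem_singleton, hroot]
      constructor
      · intro h
        have h3 : (α * t + c) * (α * t + (c + 1)) = 0 := by
          linear_combination h + hc + (α * t * c + (α * β)) * CharTwo.two_eq_zero (R := F)
        rcases mul_eq_zero.1 h3 with h4 | h4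
        · exact Or.inl (by rw [eq_div_iff hα, mul_comm, CharTwo.add_eq_zero.1 h4])
        · exact Or.inr (by rw [eq_div_iff hα, mul_comm, CharTwo.add_eq_zero.1 h4])
      · rintro (rfl | rfl)
        · rw [mul_div_cancel₀ c hα, hc]
        · rw [mul_div_cancel₀ _ hα]
          linear_combination hc + (c + 1) * CharTwo.two_eq_zero (R := F)
    have hne : c / α ≠ (c + 1) / α := fun h => by
      rw [div_left_inj' hα] at h
      simp at h
    rw [hset, Finset.card_pair hne, chi_eq_one ⟨c, hc⟩]
    ring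
  · have hset : (Finset.univ.filter fun t : F => α * t ^ 2 + t + β = 0) = ∅ :=
      Finset.filter_false_of_mem fun t _ h => hs ⟨α * t, (hroot t).1 h⟩
    rw [hset, Finset.card_empty, chi_eq_neg_one fun c hc => hs ⟨c, hc⟩]
    ring

/-- a system with an invariant quadratic form -/
structure OSys (F : Type u) [Field F] (V : Type v) [AddCommGroup V] [Module F V] extends Sys F V where
  /-- the quadratic form -/
  Q : V → F
  polar : ∀ x y, Q (x + y) = Q x + Q y + B x y
  Q_smul : ∀ (c : F) x, Q (c • x) = c ^ 2 * Q x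
  Q_inv : ∀ x, Q (g x) = Q x

namespace OSys

variable {V : Type v} [AddCommGroup V] [Module F V] (O : OSys F V)

theorem Q_zero : O.Q 0 = 0 := by
  have h := O.Q_smul 0 0
  simpa using h

theorem Q_N (x : V) : O.Q (O.toSys.N x) = O.toSys.mu 0 x := by
  have e : O.toSys.N x = O.g x + x := rfl
  have e' : O.g x = O.toSys.N x + x := by
    rw [e, add_assoc, add_self_eq (F := F), add_zero]
  show _ = O.B ((O.toSys.S ^ 0) (O.toSys.N x)) x
  rw [e, O.polar, O.Q_inv, CharTwo.add_self_eq_zero, zero_add, pow_zero, Module.End.one_apply, map_add,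
    LinearMap.add_apply, O.alt, add_zero]

theorem Q_N_pow (a : ℕ) (x : V) : O.Q ((O.toSys.N ^ (a + 1)) x) = O.toSys.mu a x := by
  rw [pow_succ', Module.End.mul_apply, O.Q_N, O.toSys.mu_N_pow, zero_add]

/-- the character sum on a subspace -/
noncomputable def gauss (W : Submodule F V) : ℤ := ∑ᶠ x : W, chi (O.Q x.1)

theorem gauss_eq (W : Submodule F V) [Fintype W] : O.gauss W = ∑ x : W, chi (O.Q x.1) :=
  finsum_eq_sum_of_fintype _

theorem gauss_bot : O.gauss ⊥ = 1 := by
  classical
  rw [O.gauss_eq, Fintype.sum_unique]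
  rw [show ((default : (⊥ : Submodule F V)) : V) = 0 from rfl, O.Q_zero, chi_zero]

variable [FiniteDimensional F V]

theorem gauss_sup {C W : Submodule F V} (hC : O.toSys.ND C) (ho : O.toSys.Orth C W) :
    O.gauss (C ⊔ W) = O.gauss C * O.gauss W := by
  classical
  haveI : Finite V := Module.finite_of_finite F
  haveI := Fintype.ofFinite V
  rw [O.gauss_eq, O.gauss_eq, O.gauss_eq, Finset.sum_mul_sum, ← Fintype.sum_prod_type']
  refine (Fintype.sum_bijective
    (fun p : C × W => (⟨p.1.1 + p.2.1, Submodule.add_mem_sup p.1.2 p.2.2⟩ : (C ⊔ W : Submodule F V))) ⟨?_, ?_⟩ _ _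
    fun p => ?_).symm
  · intro p p' h
    have h' : p.1.1 + p.2.1 = p'.1.1 + p'.2.1 := congrArg Subtype.val h
    have hmem : p.1.1 - p'.1.1 ∈ C ⊓ W := by
      refine ⟨C.sub_mem p.1.2 p'.1.2, ?_⟩
      rw [show p.1.1 - p'.1.1 = p'.2.1 - p.2.1 by rw [sub_eq_sub_iff_add_eq_add, h', add_comm]]
      exact W.sub_mem p'.2.2 p.2.2
    rw [hC.inf_eq_bot ho, Submodule.mem_bot, sub_eq_zero] at hmem
    rw [hmem] at h'
    exact Prod.ext (Subtype.ext hmem) (Subtype.ext (add_left_cancel h'))
  · rintro ⟨x, hx⟩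
    obtain ⟨a, ha, b, hb, rfl⟩ := Submodule.mem_sup.1 hx
    exact ⟨(⟨a, ha⟩, ⟨b, hb⟩), rfl⟩
  · show chi (O.Q p.1.1) * chi (O.Q p.2.1) = chi (O.Q (p.1.1 + p.2.1))
    rw [O.polar, ho _ p.1.2 _ p.2.2, add_zero, chi_add]

theorem gauss_sq {W : Submodule F V} (hW : O.toSys.ND W) :
    O.gauss W * O.gauss W = (Nat.card W : ℤ) := by
  classical
  haveI : Finite V := Module.finite_of_finite F
  haveI := Fintype.ofFinite V
  rw [O.gauss_eq, Finset.sum_mul_sum, Nat.card_eq_fintype_card]
  calc ∑ x : W, ∑ y : W, chi (O.Q x.1) * chi (O.Q y.1)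
      = ∑ x : W, ∑ z : W, chi (O.Q z.1) * chi (O.B x.1 z.1) := by
        refine Finset.sum_congr rfl fun x _ => (Fintype.sum_bijective (fun z : W => x + z) ?_ _ _ fun z => ?_).symm
        · exact (Equiv.addLeft x).bijective
        · rw [Submodule.coe_add, ← chi_add, ← chi_add, O.polar, ← add_assoc, ← add_assoc, CharTwo.add_self_eq_zero,
            zero_add]
    _ = ∑ z : W, chi (O.Q z.1) * ∑ x : W, chi (O.B x.1 z.1) := by
        rw [Finset.sum_comm]; simp only [Finset.mul_sum]
    _ = _ := by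
        rw [Finset.sum_eq_single (0 : W)]
        · simp [O.Q_zero, chi_zero]
        · intro z _ hz
          have hne : ¬ ∀ y ∈ W, O.B z.1 y = 0 := fun h => hz (Subtype.ext (hW z.1 z.2 h))
          push Not at hne
          obtain ⟨y, hy, hzy⟩ := hne
          set x0 : W := (delta F / O.B z.1 y) • ⟨y, hy⟩ with hx0
          have hx0B : O.B x0.1 z.1 = delta F := by
            rw [hx0]
            show O.B ((delta F / O.B z.1 y) • y) z.1 = _
            rw [map_smul, LinearMap.smul_apply, smul_eq_mul, O.toSys.B_symm y z.1, div_mul_cancel₀ _ hzy]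
          have h : ∑ x : W, chi (O.B (x + x0).1 z.1) = ∑ x : W, chi (O.B x.1 z.1) :=
            Equiv.sum_comp (Equiv.addRight x0) fun x : W => chi (O.B x.1 z.1)
          simp only [Submodule.coe_add, map_add, LinearMap.add_apply, chi_add, hx0B, chi_delta, mul_neg, mul_one,
            Finset.sum_neg_distrib] at h
          rw [show ∑ x : W, chi (O.B x.1 z.1) = 0 by omega, mul_zero]
        · exact fun h => absurd (Finset.mem_univ _) h

theorem gauss_ne_zero {W : Submodule F V} (hW : O.toSys.ND W) : O.gauss W ≠ 0 := by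
  intro h
  have h2 := O.gauss_sq hW
  rw [h, mul_zero] at h2
  haveI : Finite V := Module.finite_of_finite F
  have : 0 < Nat.card W := Nat.card_pos
  omega

/-- The value on a plane. -/
theorem gauss_plane {v w : V} (hvw : O.B v w = 1) :
    O.gauss (Submodule.span F {v, w}) = (Fintype.card F : ℤ) * chi (O.Q v * O.Q w) := by
  classical
  haveI : Finite V := Module.finite_of_finite F
  haveI := Fintype.ofFinite V
  rw [O.gauss_eq, ← sum_plane, ← Fintype.sum_prod_type']
  refine (Fintype.sum_bijective (fun p : F × F => (⟨p.1 • v + p.2 • w,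
    Submodule.mem_span_pair.2 ⟨p.1, p.2, rfl⟩⟩ : Submodule.span F ({v, w} : Set V))) ⟨?_, ?_⟩ _ _ fun p => ?_).symm
  · intro p p' h
    have h' : p.1 • v + p.2 • w = p'.1 • v + p'.2 • w := congrArg Subtype.val h
    have h1 := congrArg (fun x => O.B x w) h'
    have h2 := congrArg (fun x => O.B v x) h'
    simp only [map_add, map_smul, LinearMap.add_apply, LinearMap.smul_apply, smul_eq_mul, hvw, O.alt, mul_one,
      mul_zero, add_zero, zero_add] at h1 h2
    exact Prod.ext h1 h2
  · rintro ⟨x, hx⟩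
    obtain ⟨a, b, rfl⟩ := Submodule.mem_span_pair.1 hx
    exact ⟨(a, b), rfl⟩
  · show chi (O.Q v * p.1 ^ 2 + p.1 * p.2 + O.Q w * p.2 ^ 2) = chi (O.Q (p.1 • v + p.2 • w))
    rw [O.polar, O.Q_smul, O.Q_smul]
    simp only [map_smul, LinearMap.smul_apply, smul_eq_mul, hvw]
    congr 1
    ring

/-- A subspace with a totally singular half. -/
theorem gauss_of_singular {X L : Submodule F V} (hX : O.toSys.ND X) (hLX : L ≤ X)
    (hdim : Module.finrank F X = 2 * Module.finrank F L) (hQ : ∀ l ∈ L, O.Q l = 0) :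
    O.gauss X = (Nat.card L : ℤ) := by
  classical
  haveI : Finite V := Module.finite_of_finite F
  haveI := Fintype.ofFinite V
  rw [O.gauss_eq, Nat.card_eq_fintype_card]
  let Φ : X →ₗ[F] Module.Dual F L := (L.subtype.dualMap.comp O.B).comp X.subtype
  have hsurj : LinearMap.range Φ = ⊤ := by
    refine LinearMap.range_eq_top.2 (LinearMap.flip_injective_iff₁.1 ((injective_iff_map_eq_zero _).2 fun l hl => ?_))
    refine Subtype.ext (hX l.1 (hLX l.2) fun y hy => ?_)
    rw [O.toSys.B_symm]
    exact LinearMap.congr_fun hl ⟨y, hy⟩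
  have hrn := LinearMap.finrank_range_add_finrank_ker Φ
  rw [hsurj, finrank_top, Subspace.dual_finrank_eq, hdim] at hrn
  have hperp : ∀ x : X, (∀ l ∈ L, O.B x.1 l = 0) → x.1 ∈ L := by
    have hle : L.comap X.subtype ≤ LinearMap.ker Φ := fun x hx => LinearMap.mem_ker.2 (LinearMap.ext fun l => by
      have h := O.polar x.1 l.1
      have hx' : x.1 ∈ L := hx
      rw [hQ _ hx', hQ _ l.2, hQ _ (L.add_mem hx' l.2), add_zero, zero_add] at h
      exact h.symm)
    have heq := Submodule.eq_of_le_of_finrank_eq hle (by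
      rw [(Submodule.comapSubtypeEquivOfLe hLX).finrank_eq]; omega)
    intro x hx
    have : x ∈ LinearMap.ker Φ := LinearMap.mem_ker.2 (LinearMap.ext fun l => hx l.1 l.2)
    rwa [← heq] at this
  have hL : ∀ x : X, ∑ l : L, chi (O.B x.1 l.1) = if x.1 ∈ L then (Fintype.card L : ℤ) else 0 := by
    intro x
    split_ifs with h
    · rw [Fintype.card_eq_sum_ones, Nat.cast_sum]
      refine Finset.sum_congr rfl fun l _ => ?_
      have h2 := O.polar x.1 l.1
      rw [hQ _ h, hQ _ l.2, hQ _ (L.add_mem h l.2), add_zero, zero_add] at h2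
      rw [← h2, chi_zero]; rfl
    · have hne : ¬ ∀ l ∈ L, O.B x.1 l = 0 := fun h' => h (hperp x h')
      push Not at hne
      obtain ⟨y, hy, hxy⟩ := hne
      set l0 : L := (delta F / O.B x.1 y) • ⟨y, hy⟩ with hl0
      have hl0B : O.B x.1 l0.1 = delta F := by
        rw [hl0]
        show O.B x.1 ((delta F / O.B x.1 y) • y) = _
        rw [map_smul, smul_eq_mul, div_mul_cancel₀ _ hxy]
      have h' : ∑ l : L, chi (O.B x.1 (l + l0).1) = ∑ l : L, chi (O.B x.1 l.1) :=
        Equiv.sum_comp (Equiv.addRight l0) fun l : L => chi (O.B x.1 l.1)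
      simp only [Submodule.coe_add, map_add, chi_add, hl0B, chi_delta, mul_neg, mul_one,
        Finset.sum_neg_distrib] at h'
      omega
  have hshift : ∀ l : L, ∑ x : X, chi (O.Q x.1) * chi (O.B x.1 l.1) = ∑ x : X, chi (O.Q x.1) := by
    intro l
    refine Fintype.sum_bijective (fun x : X => x + ⟨l.1, hLX l.2⟩) (Equiv.addRight _).bijective _ _ fun x => ?_
    rw [Submodule.coe_add, O.polar, hQ _ l.2, add_zero, chi_add]
  have hcard : (0 : ℤ) < Fintype.card L := by exact_mod_cast Fintype.card_pos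
  refine mul_left_cancel₀ hcard.ne' ?_
  calc (Fintype.card L : ℤ) * ∑ x : X, chi (O.Q x.1)
      = ∑ l : L, ∑ x : X, chi (O.Q x.1) * chi (O.B x.1 l.1) := by
        simp only [hshift, Finset.sum_const, Finset.card_univ, nsmul_eq_mul]
    _ = ∑ x : X, chi (O.Q x.1) * ∑ l : L, chi (O.B x.1 l.1) := by
        rw [Finset.sum_comm]; simp only [Finset.mul_sum]
    _ = ∑ x : X, if x.1 ∈ L then (Fintype.card L : ℤ) else 0 := Finset.sum_congr rfl fun x _ => by
        rw [hL]
        split_ifs with h
        · rw [hQ _ h, chi_zero, one_mul]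
        · rw [mul_zero]
    _ = _ := by
        rw [← Finset.sum_filter, Finset.sum_const, nsmul_eq_mul, ← Fintype.card_subtype,
          Fintype.card_congr (show {x : X // x.1 ∈ L} ≃ L from
            ⟨fun x => ⟨x.1.1, x.2⟩, fun l => ⟨⟨l.1, hLX l.2⟩, l.2⟩, fun _ => rfl, fun _ => rfl⟩)]

end OSys

end Cfsg.Agent.Small.SpEven
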