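import Mathlib
import Cfsg.Agent.Lib.Small.Semisimple
import Cfsg.Agent.Lib.Small.ClassNumberSp2.Decomp
import Cfsg.Agent.Lib.Small.ClassNumberOTwo.Gauss

/-!
The cyclic isometries without fixed vectors and their Gauss sums.
-/

set_option autoImplicit false
set_option linter.unusedSectionVars false
set_option linter.style.haveILetI false

namespace Cfsg.Agent.Small.SpEven

open Polynomial

universe u v

variable {F : Type u} [Field F] [Fintype F] [CharP F 2]

/-- partial sums of coefficients -/
def psum (g : ℕ → F) (t : ℕ) : F := ∑ l ∈ Finset.range t, g l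

/-- the element deciding the Gauss sum of the cyclic isometry -/
def sgnArg (g : ℕ → F) (e : ℕ) : F := (∑ j ∈ Finset.range e, psum g (e - j)) / g e

theorem Q_sum {V : Type v} [AddCommGroup V] [Module F V] (O : OSys F V) {ι : Type*} [DecidableEq ι] (s : Finset ι)
    (a : ι → F) (x : ι → V) (h : ∀ i ∈ s, ∀ j ∈ s, i ≠ j → O.B (x i) (x j) = 0) :
    O.Q (∑ i ∈ s, a i • x i) = ∑ i ∈ s, a i ^ 2 * O.Q (x i) := by
  induction s using Finset.induction_on with
  | empty => simp [O.Q_zero]
  | @insert i s hi ih =>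
    rw [Finset.sum_insert hi, Finset.sum_insert hi, O.polar, O.Q_smul,
      ih fun j hj k hk => h j (Finset.mem_insert_of_mem hj) k (Finset.mem_insert_of_mem hk), map_sum,
      Finset.sum_eq_zero (s := s) (f := fun j => O.B (a i • x i) (a j • x j)) fun j hj => by
        rw [map_smul, map_smul, LinearMap.smul_apply, h i (Finset.mem_insert_self _ _) j (Finset.mem_insert_of_mem hj)
          (fun hij => hi (hij ▸ hj)), smul_zero, smul_zero],
      add_zero]

/-- The Gauss sum of a cyclic isometry. -/
theorem gauss_cyclic {V : Type v} [AddCommGroup V] [Module F V] [FiniteDimensional F V] (O : OSys F V) {e : ℕ}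
    (he : 1 ≤ e) (g : ℕ → F) (hg0 : g 0 = 1) (hgs : ∀ i ≤ 2 * e, g (2 * e - i) = g i) (hge : g e ≠ 0) (v : V)
    (hV : Module.finrank F V = 2 * e)
    (hspan : Submodule.span F (Set.range fun i : Fin (2 * e) => (O.toSys.U ^ (i : ℕ)) v) = ⊤)
    (hlow : ∀ d, d < e → O.B ((O.toSys.U ^ d) v) v = 0) (hone : O.B ((O.toSys.U ^ e) v) v = 1)
    (hrel : ∑ i ∈ Finset.range (2 * e + 1), g i • (O.toSys.U ^ i) v = 0) :
    O.gauss ⊤ = (Fintype.card F : ℤ) ^ e * chi (sgnArg g e) := by
  classical
  obtain ⟨y, hy⟩ : ∃ y : ℕ → V, ∀ i, y i = (O.toSys.U ^ i) v := ⟨_, fun _ => rfl⟩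
  obtain ⟨bb, hbb⟩ : ∃ bb : ℕ → F, ∀ d, bb d = O.B ((O.toSys.U ^ d) v) v := ⟨_, fun _ => rfl⟩
  have hUy : ∀ i, O.toSys.U (y i) = y (i + 1) := fun i => by rw [hy, hy, pow_succ', Module.End.mul_apply]
  have hshift : ∀ i d, O.B (y (i + d)) (y i) = bb d := by
    intro i
    induction i with
    | zero => intro d; rw [zero_add, hy, hy, hbb, pow_zero, Module.End.one_apply]
    | succ i ih =>
      intro d
      rw [show i + 1 + d = i + d + 1 by ring, ← hUy, ← hUy, ← ih d]
      exact O.inv _ _
  have hB : ∀ i j, i ≤ j → O.B (y i) (y j) = bb (j - i) ∧ O.B (y j) (y i) = bb (j - i) := by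
    intro i j hij
    obtain ⟨d, rfl⟩ := Nat.exists_eq_add_of_le hij
    rw [Nat.add_sub_cancel_left]
    exact ⟨(O.toSys.B_symm _ _).trans (hshift i d), hshift i d⟩
  have hBz : ∀ i j, i < j + e → j < i + e → O.B (y i) (y j) = 0 := by
    intro i j h1 h2
    rcases le_total i j with h | h
    · rw [(hB i j h).1, hbb]; exact hlow _ (by omega)
    · rw [(hB j i h).2, hbb]; exact hlow _ (by omega)
  have hbe : bb e = 1 := by rw [hbb]; exact hone
  have hQy : ∀ i, O.Q (y i) = O.Q v := by
    intro i
    induction i with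
    | zero => rw [hy, pow_zero, Module.End.one_apply]
    | succ i ih => rw [← hUy]; exact (O.Q_inv _).trans ih
  have hrel' : ∑ i ∈ Finset.range (2 * e + 1), g i • y i = 0 := by simp only [hy]; exact hrel
  have hN : ∀ i, O.toSys.N (y i) = y (i + 1) + y i := fun i => by
    rw [Sys.N, LinearMap.add_apply, Module.End.one_apply, hUy]
  have htot : psum g (2 * e) + 1 = g e := by
    have h1 : psum g (2 * e + 1) = psum g (2 * e) + 1 := by
      rw [psum, psum, Finset.sum_range_succ, show g (2 * e) = 1 by
        have := hgs 0 (Nat.zero_le _)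
        rw [Nat.sub_zero, hg0] at this; exact this]
    rw [← h1, psum, show 2 * e + 1 = e + 1 + e by ring, Finset.sum_range_add, Finset.sum_range_succ]
    have h2 : ∑ x ∈ Finset.range e, g (e + 1 + x) = ∑ x ∈ Finset.range e, g x := by
      rw [← Finset.sum_range_reflect (fun x => g x) e]
      refine Finset.sum_congr rfl fun x hx => ?_
      have hx' := Finset.mem_range.1 hx
      rw [← hgs (e + 1 + x) (by omega)]
      congr 1
      omega
    rw [h2, add_comm (∑ x ∈ Finset.range e, g x) (g e), add_assoc, CharTwo.add_self_eq_zero, add_zero]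
  have hc : O.Q v = (g e)⁻¹ := by
    set α := (g e)⁻¹ with hα
    have hA : ∀ n, O.toSys.N (∑ i ∈ Finset.range n, psum g (i + 1) • y i) + ∑ i ∈ Finset.range n, g i • y i =
        psum g n • y n := by
      intro n
      induction n with
      | zero => simp [psum]
      | succ n ih =>
        rw [Finset.sum_range_succ, Finset.sum_range_succ, map_add, map_smul, hN,
          show O.toSys.N (∑ i ∈ Finset.range n, psum g (i + 1) • y i) + psum g (n + 1) • (y (n + 1) + y n) +
            ((∑ i ∈ Finset.range n, g i • y i) + g n • y n) =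
            (O.toSys.N (∑ i ∈ Finset.range n, psum g (i + 1) • y i) + ∑ i ∈ Finset.range n, g i • y i) +
              (psum g (n + 1) • (y (n + 1) + y n) + g n • y n) by abel, ih, smul_add,
          show psum g (n + 1) = psum g n + g n from Finset.sum_range_succ _ _, add_smul, add_smul]
        rw [show psum g n • y n + (psum g n • y (n + 1) + g n • y (n + 1) + (psum g n • y n + g n • y n) + g n • y n) =
          (psum g n • y (n + 1) + g n • y (n + 1)) + ((psum g n • y n + psum g n • y n) + (g n • y n + g n • y n)) by abel,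
          add_self_eq (F := F), add_self_eq (F := F), add_zero, add_zero]
    have hT : ∀ n, O.toSys.N (∑ i ∈ Finset.range n, y (e + i)) = y (e + n) + y e := by
      intro n
      induction n with
      | zero => simp [add_self_eq (F := F)]
      | succ n ih =>
        rw [Finset.sum_range_succ, map_add, ih, hN, show e + n + 1 = e + (n + 1) by ring,
          show y (e + n) + y e + (y (e + (n + 1)) + y (e + n)) = (y (e + n) + y (e + n)) + (y (e + (n + 1)) + y e) by abel,
          add_self_eq (F := F), zero_add]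
    set z := α • (∑ i ∈ Finset.range (2 * e), psum g (i + 1) • y i) + ∑ i ∈ Finset.range e, y (e + i) with hz
    have hNz : O.toSys.N z = y e := by
      have h1 : O.toSys.N (∑ i ∈ Finset.range (2 * e), psum g (i + 1) • y i) = g e • y (2 * e) := by
        have h2 := hA (2 * e)
        rw [Finset.sum_range_succ] at hrel'
        have h3 : ∑ i ∈ Finset.range (2 * e), g i • y i = g (2 * e) • y (2 * e) := by
          rw [← sub_eq_zero, sub_eq_add_neg, neg_eq' (F := F)]; exact hrel'
        rw [h3, show g (2 * e) = 1 by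
          have := hgs 0 (Nat.zero_le _)
          rw [Nat.sub_zero, hg0] at this; exact this] at h2
        rw [← htot, add_smul, ← h2, add_assoc, add_self_eq (F := F), add_zero]
      rw [hz, map_add, map_smul, h1, hT, smul_smul, hα, inv_mul_cancel₀ hge, one_smul, ← add_assoc, ← two_mul,
        add_self_eq (F := F), zero_add]
    rw [← hQy e, ← hNz, O.Q_N]
    show O.B (O.toSys.N z) z = α
    rw [hNz, hz, map_add, map_smul, map_sum, map_sum, Finset.sum_eq_single 0, Finset.sum_eq_zero fun i hi => ?_,
      add_zero]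
    · rw [map_smul, (hB 0 e (Nat.zero_le _)).2, Nat.sub_zero, hbe]
      simp [psum, hg0]
    · exact hBz e (e + i) (by omega) (by have := Finset.mem_range.1 hi; omega)
    · intro i hi hi0
      rw [map_smul, hBz e i (by omega) (by have := Finset.mem_range.1 hi; omega), smul_zero]
    · exact fun h => absurd (Finset.mem_range.2 (by omega)) h
  have hconv : ∀ m, 1 ≤ m → m ≤ e → ∑ s ∈ Finset.range (m + 1), bb (e + s) * g (m - s) = 0 := by
    intro m hm1 hme
    have h := congrArg (fun x => O.B x (y (e - m))) hrel'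
    simp only [map_sum, LinearMap.sum_apply, map_smul, LinearMap.smul_apply, smul_eq_mul, map_zero,
      LinearMap.zero_apply] at h
    rw [show 2 * e + 1 = (2 * e - m) + (m + 1) by omega, Finset.sum_range_add,
      Finset.sum_eq_zero (s := Finset.range (2 * e - m)) fun i hi => by
        have := Finset.mem_range.1 hi
        rw [hBz i (e - m) (by omega) (by omega), mul_zero], zero_add] at h
    rw [← h]
    refine Finset.sum_congr rfl fun s hs => ?_
    have := Finset.mem_range.1 hs
    rw [(hB (e - m) (2 * e - m + s) (by omega)).2, show 2 * e - m + s - (e - m) = e + s by omega,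
      ← hgs (2 * e - m + s) (by omega), show 2 * e - (2 * e - m + s) = m - s by omega]
    ring
  have hF : ∀ t, t < e → ∑ s ∈ Finset.range (t + 1), bb (e + s) * psum g (t + 1 - s) = 1 := by
    intro t
    induction t with
    | zero => intro _; simp [psum, hbe, hg0]
    | succ t ih =>
      intro ht
      have e1 : ∀ s ∈ Finset.range (t + 1 + 1), bb (e + s) * psum g (t + 1 + 1 - s) =
          bb (e + s) * psum g (t + 1 - s) + bb (e + s) * g (t + 1 - s) := fun s hs => by
        have := Finset.mem_range.1 hs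
        rw [show t + 1 + 1 - s = t + 1 - s + 1 by omega, psum, psum, Finset.sum_range_succ]
        ring
      rw [Finset.sum_congr rfl e1, Finset.sum_add_distrib, hconv (t + 1) (by omega) (by omega), add_zero,
        Finset.sum_range_succ, ih (by omega), Nat.sub_self, psum, Finset.sum_range_zero, mul_zero, add_zero]
  set w := ∑ j ∈ Finset.range e, psum g (e - j) • y (e + j) with hw
  have hyw : ∀ i, i < e → O.B (y i) w = 1 := by
    intro i hi
    rw [hw, map_sum, show e = i + (e - i) by omega, Finset.sum_range_add,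
      Finset.sum_eq_zero (s := Finset.range i) fun j hj => by
        have := Finset.mem_range.1 hj
        rw [map_smul, hBz i _ (by omega) (by omega), smul_zero], zero_add]
    obtain ⟨t, ht⟩ : ∃ t, e - i = t + 1 := ⟨e - i - 1, by omega⟩
    rw [ht, ← hF t (by omega)]
    refine Finset.sum_congr rfl fun s hs => ?_
    have := Finset.mem_range.1 hs
    rw [map_smul, (hB i _ (by omega)).1, show i + (t + 1) - (i + s) = t + 1 - s by omega,
      show i + (t + 1) + (i + s) - i = e + s by omega, smul_eq_mul, mul_comm]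
  have hQw : O.Q w = O.Q v * (∑ j ∈ Finset.range e, psum g (e - j)) ^ 2 := by
    rw [hw, Q_sum O _ _ _ fun i hi j hj _ => ?_, CharTwo.sum_sq, Finset.mul_sum]
    · refine Finset.sum_congr rfl fun j _ => ?_
      rw [hQy, mul_comm]
    · have := Finset.mem_range.1 hi
      have := Finset.mem_range.1 hj
      exact hBz _ _ (by omega) (by omega)
  have hv0 : y 0 = v := by rw [hy, pow_zero, Module.End.one_apply]
  have hvw : O.B v w = 1 := hv0 ▸ hyw 0 (by omega)
  set P := Submodule.span F ({v, w} : Set V) with hP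
  have hPnd : O.toSys.ND P := by
    intro x hx hall
    obtain ⟨a, b, rfl⟩ := Submodule.mem_span_pair.1 hx
    have h1 := hall w (Submodule.subset_span (Or.inr rfl))
    have h2 := hall v (Submodule.subset_span (Or.inl rfl))
    simp only [map_add, map_smul, LinearMap.add_apply, LinearMap.smul_apply, smul_eq_mul, hvw, O.alt,
      O.toSys.B_symm w v, mul_one, mul_zero, add_zero, zero_add] at h1 h2
    rw [h1, h2, zero_smul, zero_smul, add_zero]
  set X := (⊤ : Submodule F V) ⊓ ⨅ c : P, LinearMap.ker (O.B c.1) with hX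
  have hmemX : ∀ x : V, x ∈ X ↔ ∀ c ∈ P, O.B c x = 0 := fun x => by
    simp [hX, Submodule.mem_iInf]
  have hoX : O.toSys.Orth P X := fun c hc x hx => (hmemX x).1 hx c hc
  have hsupX : P ⊔ X = ⊤ := by
    rw [eq_top_iff]
    intro x _
    refine Submodule.mem_sup.2 ⟨O.B x w • v + O.B x v • w, Submodule.mem_span_pair.2 ⟨_, _, rfl⟩,
      x + (O.B x w • v + O.B x v • w), (hmemX _).2 fun c hc => ?_, ?_⟩
    · obtain ⟨a, b, rfl⟩ := Submodule.mem_span_pair.1 hc
      simp only [map_add, map_smul, LinearMap.add_apply, LinearMap.smul_apply, smul_eq_mul, hvw, O.alt,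
        O.toSys.B_symm w v, O.toSys.B_symm v x, O.toSys.B_symm w x]
      ring_nf
      simp [CharTwo.two_eq_zero]
    · rw [add_comm x, ← add_assoc, add_self_eq (F := F), zero_add]
  have hXnd : O.toSys.ND X := by
    intro x hx hall
    refine O.nondeg x fun z => ?_
    obtain ⟨p, hp, q, hq, rfl⟩ := Submodule.mem_sup.1 (show z ∈ P ⊔ X by rw [hsupX]; trivial)
    rw [map_add, hall q hq, hoX.symm x hx p hp, add_zero]
  have hli : LinearIndependent F fun i : Fin (2 * e) => y (i : ℕ) :=
    linearIndependent_of_top_le_span_of_card_eq_finrank (by simp only [hy]; rw [hspan])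
      (by rw [Fintype.card_fin, hV])
  have hP2 : Module.finrank F P = 2 := by
    have hlv : LinearIndependent F ![v, w] := by
      rw [LinearIndependent.pair_iff]
      intro a b hab
      have h1 := congrArg (fun x => O.B x w) hab
      have h2 := congrArg (fun x => O.B x v) hab
      simp only [map_add, map_smul, LinearMap.add_apply, LinearMap.smul_apply, smul_eq_mul, hvw, O.alt,
        O.toSys.B_symm w v, map_zero, LinearMap.zero_apply, mul_one, mul_zero, add_zero, zero_add] at h1 h2
      exact ⟨h1, h2⟩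
    have h := finrank_span_eq_card hlv
    rw [Fintype.card_fin, Matrix.range_cons, Matrix.range_cons, Matrix.range_empty, Set.union_empty,
      Set.singleton_union] at h
    exact h
  set L := Submodule.span F (Set.range fun i : Fin (e - 1) => y ((i : ℕ) + 1) + v) with hL
  have hgenQ : ∀ l ∈ L, O.Q l = 0 ∧ ∀ i, i < e → O.B l (y i) = 0 := by
    intro l hl
    induction hl using Submodule.span_induction with
    | mem x hx =>
      obtain ⟨i, rfl⟩ := hx
      have := i.2
      refine ⟨?_, fun j hj => ?_⟩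
      · show O.Q (y ((i : ℕ) + 1) + v) = 0
        rw [← hv0, O.polar, hQy, hQy, hBz _ 0 (by omega) (by omega), add_zero, CharTwo.add_self_eq_zero]
      · show O.B (y ((i : ℕ) + 1) + v) (y j) = 0
        rw [← hv0, map_add, LinearMap.add_apply, hBz _ j (by omega) (by omega), hBz 0 j (by omega) (by omega),
          add_zero]
    | zero => exact ⟨O.Q_zero, fun j _ => by simp⟩
    | add x z hx hz hxi hzi =>
      refine ⟨?_, fun j hj => by rw [map_add, LinearMap.add_apply, hxi.2 j hj, hzi.2 j hj, add_zero]⟩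
      have hzero : Submodule.span F (Set.range fun i : Fin (e - 1) => y ((i : ℕ) + 1) + v) ≤ LinearMap.ker (O.B x) := by
        rw [Submodule.span_le]
        rintro _ ⟨i, rfl⟩
        show O.B x (y ((i : ℕ) + 1) + v) = 0
        have := i.2
        rw [← hv0, map_add, hxi.2 _ (by omega), hxi.2 0 (by omega), add_zero]
      rw [O.polar, hxi.1, hzi.1, show O.B x z = 0 from hzero hz, add_zero, add_zero]
    | smul c x _ hxi =>
      exact ⟨by rw [O.Q_smul, hxi.1, mul_zero], fun j hj => by
        rw [map_smul, LinearMap.smul_apply, hxi.2 j hj, smul_zero]⟩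
  have hLX : L ≤ X := by
    rw [hL, Submodule.span_le]
    rintro _ ⟨i, rfl⟩
    refine (hmemX _).2 fun c hc => ?_
    obtain ⟨a, b, rfl⟩ := Submodule.mem_span_pair.1 hc
    have := i.2
    have h1 : O.B v (y ((i : ℕ) + 1) + v) = 0 := by
      rw [← hv0, map_add, hBz 0 _ (by omega) (by omega), hBz 0 0 (by omega) (by omega), add_zero]
    have h2 : O.B w (y ((i : ℕ) + 1) + v) = 0 := by
      rw [map_add, O.toSys.B_symm w, hyw _ (by omega), O.toSys.B_symm w v, hvw, CharTwo.add_self_eq_zero]
    rw [map_add (O.B) (a • v) (b • w), map_smul, map_smul, LinearMap.add_apply, LinearMap.smul_apply, LinearMap.smul_apply, h1, h2,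
      smul_zero, smul_zero, add_zero]
  have hdimX : Module.finrank F X = 2 * e - 2 := by
    have h := Submodule.finrank_sup_add_finrank_inf_eq P X
    rw [hsupX, finrank_top, hV, hPnd.inf_eq_bot hoX, finrank_bot, hP2] at h
    omega
  have hdimL : Module.finrank F L = e - 1 := by
    have hle : Module.finrank F L ≤ e - 1 := (finrank_range_le_card _).trans (by rw [Fintype.card_fin])
    set M := Submodule.span F (Set.range fun i : Fin e => y (i : ℕ)) with hM
    have hMdim : Module.finrank F M = e := by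
      have hl : LinearIndependent F (fun i : Fin e => y (i : ℕ)) :=
        hli.comp (Fin.castLE (by omega : e ≤ 2 * e)) (Fin.castLE_injective _)
      rw [hM, finrank_span_eq_card hl, Fintype.card_fin]
    have hML : M ≤ L ⊔ Submodule.span F {v} := by
      rw [hM, Submodule.span_le]
      rintro _ ⟨⟨i, hi⟩, rfl⟩
      rcases i with _ | i
      · refine Submodule.mem_sup_right ?_
        show y 0 ∈ Submodule.span F {v}
        rw [hv0]; exact Submodule.mem_span_singleton_self v
      · refine Submodule.mem_sup.2 ⟨y (i + 1) + v, Submodule.subset_span ⟨⟨i, by omega⟩, rfl⟩, v,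
          Submodule.mem_span_singleton_self v, ?_⟩
        rw [add_assoc, add_self_eq (F := F), add_zero]
    have h1 := Submodule.finrank_mono hML
    have h2 := Submodule.finrank_sup_add_finrank_inf_eq L (Submodule.span F {v})
    have h3 : Module.finrank F (Submodule.span F ({v} : Set V)) ≤ 1 :=
      (finrank_span_le_card _).trans (by simp)
    omega
  rw [← hsupX, O.gauss_sup hPnd hoX, O.gauss_of_singular hXnd hLX (by omega) fun l hl => (hgenQ l hl).1,
    Module.natCard_eq_pow_finrank (K := F), Nat.card_eq_fintype_card, hdimL, hP, O.gauss_plane hvw, hQw, hc,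
    show (g e)⁻¹ * ((g e)⁻¹ * (∑ j ∈ Finset.range e, psum g (e - j)) ^ 2) = sgnArg g e ^ 2 by
      rw [sgnArg, div_pow]; field_simp, chi_sq]
  push_cast
  rw [show (Fintype.card F : ℤ) ^ e = Fintype.card F ^ (e - 1) * Fintype.card F by
    rw [← pow_succ, Nat.sub_add_cancel he]]
  ring

/-- coefficients of the self-dual polynomial with given half -/
def coefOf {e : ℕ} (h : Fin e → F) (i : ℕ) : F :=
  if i = 0 ∨ i = 2 * e then 1
  else if hi : i ≤ e ∧ 1 ≤ i then h ⟨i - 1, by omega⟩
  else if hi : i < 2 * e ∧ e < i then h ⟨2 * e - i - 1, by omega⟩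
  else 0

theorem coefOf_zero {e : ℕ} (h : Fin e → F) : coefOf h 0 = 1 := if_pos (Or.inl rfl)

theorem coefOf_sym {e : ℕ} (h : Fin e → F) : ∀ i ≤ 2 * e, coefOf h (2 * e - i) = coefOf h i := by
  intro i hi
  unfold coefOf
  split_ifs <;> first | rfl | omega | (congr 1; apply Fin.ext; simp only; omega)

theorem coefOf_succ {e : ℕ} (h : Fin e → F) (j : Fin e) : coefOf h ((j : ℕ) + 1) = h j := by
  have := j.2
  rw [coefOf, if_neg (by omega), dif_pos ⟨by omega, by omega⟩]
  congr 1

/-- the self-dual polynomial -/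
noncomputable def polyOf {e : ℕ} (h : Fin e → F) : F[X] :=
  X ^ (2 * e) + ∑ i ∈ Finset.range (2 * e), C (coefOf h i) * X ^ i

theorem polyOf_spec {e : ℕ} (h : Fin e → F) :
    (polyOf h).Monic ∧ (polyOf h).natDegree = 2 * e ∧ ∀ i, i ≤ 2 * e → (polyOf h).coeff i = coefOf h i := by
  have hlow : (∑ i ∈ Finset.range (2 * e), C (coefOf h i) * X ^ i).degree < ((2 * e : ℕ) : WithBot ℕ) := by
    refine lt_of_le_of_lt (degree_sum_le _ _) ((Finset.sup_lt_iff (WithBot.bot_lt_coe _)).2 fun i hi => ?_)
    exact lt_of_le_of_lt (degree_C_mul_X_pow_le _ _) (WithBot.coe_lt_coe.2 (Finset.mem_range.1 hi))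
  refine ⟨monic_X_pow_add hlow, natDegree_eq_of_degree_eq_some ?_, fun i hi => ?_⟩
  · rw [polyOf, degree_add_eq_left_of_degree_lt (by rwa [degree_X_pow]), degree_X_pow]
  · rw [polyOf, coeff_add, coeff_X_pow, finsetSum_coeff]
    rcases Nat.eq_or_lt_of_le hi with rfl | hlt
    · rw [if_pos rfl, Finset.sum_eq_zero fun j hj => by
        rw [coeff_C_mul_X_pow, if_neg (by have := Finset.mem_range.1 hj; omega)], add_zero, coefOf, if_pos (Or.inr rfl)]
    · rw [if_neg (by omega), zero_add, Finset.sum_eq_single i]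
      · rw [coeff_C_mul_X_pow, if_pos rfl]
      · intro j _ hj; rw [coeff_C_mul_X_pow, if_neg (Ne.symm hj)]
      · intro hm; exact absurd (Finset.mem_range.2 hlt) hm

theorem polyOf_injective {e : ℕ} {h h' : Fin e → F} (hh : polyOf h = polyOf h') : h = h' := by
  funext j
  have := j.2
  rw [← coefOf_succ h, ← coefOf_succ h', ← (polyOf_spec h).2.2 _ (by omega), ← (polyOf_spec h').2.2 _ (by omega), hh]

/-- The cyclic isometry with given self-dual polynomial. -/
theorem exists_model {e : ℕ} (he : 1 ≤ e) (h : Fin e → F) (hne : coefOf h e ≠ 0) :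
    ∃ O : OSys F (Fin (2 * e) → F), LinearMap.charpoly O.toSys.U = polyOf h ∧ IsUnit O.toSys.N ∧
      O.gauss ⊤ = (Fintype.card F : ℤ) ^ e * chi (sgnArg (coefOf h) e) := by
  classical
  obtain ⟨hP, hdeg, hco⟩ := polyOf_spec h
  set P := polyOf h with hPdef
  have hpal : ∀ i ≤ 2 * e, P.coeff i = P.coeff (2 * e - i) := fun i hi => by
    rw [hco i hi, hco _ (Nat.sub_le _ _), coefOf_sym h i hi]
  haveI := (AdjoinRoot.powerBasis' hP).finite
  obtain ⟨x, hx⟩ : ∃ x, x = AdjoinRoot.root P := ⟨_, rfl⟩
  obtain ⟨xi, hxi⟩ : ∃ xi, xi = AdjoinRoot.mk P P.divX := ⟨_, rfl⟩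
  have hneg : ∀ a : AdjoinRoot P, -a = a := neg_eq' (F := F)
  have hc0 : P.coeff 0 = 1 := by rw [hco 0 (Nat.zero_le _), coefOf_zero]
  have hxxi : x * xi = 1 := by
    have h' := congrArg (AdjoinRoot.mk P) (Polynomial.X_mul_divX_add P)
    rw [map_add, map_mul, AdjoinRoot.mk_X, hc0, map_one, map_one, AdjoinRoot.mk_self, ← hxi, ← hx] at h'
    rw [eq_neg_of_add_eq_zero_left h', hneg]
  letI : Invertible x := ⟨xi, by rw [mul_comm, hxxi], hxxi⟩
  have hrev : P.reverse = P := by
    ext i
    rw [Polynomial.coeff_reverse, hdeg]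
    rcases le_or_gt i (2 * e) with h | h
    · rw [Polynomial.revAt_le h, ← hpal i h]
    · rw [Polynomial.revAt_eq_self_of_lt h]
  have hroot : P.eval₂ (Algebra.ofId F (AdjoinRoot P)).toRingHom xi = 0 := by
    have h' := (Polynomial.eval₂_reverse_eq_zero_iff (algebraMap F (AdjoinRoot P)) x P).2 (by
      rw [hx]; exact AdjoinRoot.eval₂_root P)
    rw [hrev] at h'
    exact h'
  let σ : AdjoinRoot P →ₐ[F] AdjoinRoot P := AdjoinRoot.liftAlgHom P (Algebra.ofId F (AdjoinRoot P)) xi hroot
  have hσx : σ x = xi := by rw [hx]; exact AdjoinRoot.liftAlgHom_root _ _ _ _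
  have hσxi : σ xi = x := by
    have h' := congrArg σ hxxi
    rw [map_mul, hσx, map_one] at h'
    linear_combination x * h' - σ xi * hxxi
  have hσσ : ∀ z, σ (σ z) = z := fun z => by
    have h' : σ.comp σ = AlgHom.id F (AdjoinRoot P) := AdjoinRoot.algHom_ext (by
      rw [AlgHom.comp_apply, ← hx, hσx, hσxi, AlgHom.id_apply])
    exact congrArg (fun f : AdjoinRoot P →ₐ[F] AdjoinRoot P => f z) h'
  let τ : AdjoinRoot P →ₗ[F] F := (Polynomial.lcoeff F (2 * e - 1)).comp
    ((AdjoinRoot.modByMonicHom hP).comp (LinearMap.mulRight F (x ^ (e - 1))))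
  have hτ : ∀ (f : F[X]) (z : AdjoinRoot P), z * x ^ (e - 1) = AdjoinRoot.mk P f → f.natDegree < 2 * e →
      τ z = f.coeff (2 * e - 1) := fun f z hz hf => by
    show (AdjoinRoot.modByMonicHom hP (z * x ^ (e - 1))).coeff (2 * e - 1) = _
    rw [hz, AdjoinRoot.modByMonicHom_mk, (Polynomial.modByMonic_eq_self_iff hP).2 ?_]
    exact Polynomial.degree_lt_degree (hdeg ▸ hf)
  have hXpow : ∀ i, x ^ i = AdjoinRoot.mk P (X ^ i) := fun i => by rw [map_pow, AdjoinRoot.mk_X, hx]
  have hτx : ∀ i ≤ e, τ (x ^ i) = if i = e then 1 else 0 := fun i hi => by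
    rw [hτ (X ^ (i + (e - 1))) _ (by rw [← pow_add, hXpow]) (by rw [natDegree_X_pow]; omega), coeff_X_pow]
    by_cases h' : i = e
    · rw [if_pos h', if_pos (by omega)]
    · rw [if_neg h', if_neg (by omega)]
  have hτxi : ∀ i, i ≤ e → τ (xi ^ i) = if i = e then 1 else 0 := fun i hi => by
    rcases Nat.eq_zero_or_pos i with rfl | hi1
    · rw [pow_zero, ← pow_zero x, hτx 0 hi]
    by_cases h' : i = e
    · rw [if_pos h', hτ P.divX _ ?_ ?_, coeff_divX, show 2 * e - 1 + 1 = 2 * e by omega, ← hdeg, hP.coeff_natDegree]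
      · subst h'
        obtain ⟨j, rfl⟩ : ∃ j, i = j + 1 := ⟨i - 1, by omega⟩
        rw [Nat.add_sub_cancel, ← hxi, pow_succ', mul_assoc, ← mul_pow, mul_comm xi x, hxxi, one_pow, mul_one]
      · rw [natDegree_divX_eq_natDegree_tsub_one, hdeg]; omega
    · rw [if_neg h', hτ (X ^ (e - 1 - i)) _ ?_ (by rw [natDegree_X_pow]; omega), coeff_X_pow, if_neg (by omega)]
      rw [← hXpow, show e - 1 = i + (e - 1 - i) by omega, pow_add, ← mul_assoc, ← mul_pow, mul_comm xi x, hxxi,
        one_pow, one_mul, Nat.add_sub_cancel_left]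
  have hτσ : ∀ z, τ (σ z) = τ z := by
    have h' : (τ.comp σ.toLinearMap + τ).comp (LinearMap.mulRight F (xi ^ (e - 1))) = 0 := by
      refine (AdjoinRoot.powerBasis' hP).basis.ext fun j => ?_
      have hj : (j : ℕ) < 2 * e := hdeg ▸ j.isLt
      simp only [PowerBasis.basis_eq_pow, LinearMap.comp_apply, LinearMap.add_apply, LinearMap.mulRight_apply,
        AlgHom.toLinearMap_apply, LinearMap.zero_apply]
      rw [show (AdjoinRoot.powerBasis' hP).gen = x from hx.symm]
      rcases le_or_gt (e - 1) (j : ℕ) with hjm | hjm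
      · obtain ⟨i, hi⟩ : ∃ i, (j : ℕ) = i + (e - 1) := ⟨(j : ℕ) - (e - 1), by omega⟩
        rw [hi, pow_add, mul_assoc, ← mul_pow, hxxi, one_pow, mul_one, map_pow, hσx, hτx i (by omega),
          hτxi i (by omega), CharTwo.add_self_eq_zero]
      · obtain ⟨i, hi, hi0⟩ : ∃ i, e - 1 = (j : ℕ) + i ∧ 0 < i := ⟨e - 1 - j, by omega, by omega⟩
        rw [hi, pow_add, ← mul_assoc, ← mul_pow, hxxi, one_pow, one_mul, map_pow, hσxi, hτxi i (by omega),
          hτx i (by omega), CharTwo.add_self_eq_zero]
    intro z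
    have h1 := LinearMap.congr_fun h' (z * x ^ (e - 1))
    simp only [LinearMap.comp_apply, LinearMap.mulRight_apply, LinearMap.add_apply, AlgHom.toLinearMap_apply,
      LinearMap.zero_apply] at h1
    rw [mul_assoc, ← mul_pow, hxxi, one_pow, mul_one] at h1
    exact CharTwo.add_eq_zero.1 h1
  let β : AdjoinRoot P →ₗ[F] AdjoinRoot P →ₗ[F] F :=
    ((LinearMap.mul F (AdjoinRoot P)).comp σ.toLinearMap).compr₂ τ
  have hβ : ∀ u v, β u v = τ (σ u * v) := fun u v => rfl
  have hsym : ∀ u v, β v u = β u v := fun u v => by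
    rw [hβ, hβ, ← hτσ, map_mul σ, hσσ, mul_comm]
  have hpow : ∀ d, d ≤ e → β (x ^ d) 1 = if d = e then 1 else 0 := fun d hd => by
    rw [hβ, mul_one, map_pow, hσx, hτxi d hd]
  have hinvβ : ∀ u v, β (x * u) (x * v) = β u v := fun u v => by
    rw [hβ, hβ, map_mul σ, hσx, mul_mul_mul_comm, mul_comm xi x, hxxi, one_mul]
  have halt : ∀ v, β v v = 0 := by
    intro v
    have hv : v ∈ Submodule.span F (Set.range (AdjoinRoot.powerBasis' hP).basis) := by
      rw [Module.Basis.span_eq]; trivial
    induction hv using Submodule.span_induction with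
    | mem u hu =>
      obtain ⟨j, rfl⟩ := hu
      rw [PowerBasis.basis_eq_pow, show (AdjoinRoot.powerBasis' hP).gen = x from hx.symm, hβ, map_pow, hσx,
        ← mul_pow, mul_comm, hxxi, one_pow, ← pow_zero x, hτx 0 (Nat.zero_le _), if_neg (by omega)]
    | zero => simp
    | add u w _ _ hu hw =>
      simp only [map_add, LinearMap.add_apply, hu, hw, zero_add, add_zero, hsym u w, CharTwo.add_self_eq_zero]
    | smul c u _ hu => simp only [map_smul, LinearMap.smul_apply, hu, smul_zero]
  have hnd : ∀ v, (∀ w, β v w = 0) → v = 0 := by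
    intro v hv
    by_contra hv0
    have hw0 : σ v ≠ 0 := fun e' => hv0 (by rw [← hσσ v, e', map_zero])
    obtain ⟨f, hf⟩ : ∃ f, f = AdjoinRoot.modByMonicHom hP (σ v) := ⟨_, rfl⟩
    have hfv : AdjoinRoot.mk P f = σ v := by rw [hf]; exact AdjoinRoot.mk_leftInverse hP _
    have hf0 : f ≠ 0 := fun e' => hw0 (by rw [← hfv, e', map_zero])
    have hfd : f.natDegree < 2 * e := by
      obtain ⟨g, hg⟩ := AdjoinRoot.mk_surjective (σ v)
      rw [hf, ← hg, AdjoinRoot.modByMonicHom_mk, ← hdeg]
      refine Polynomial.natDegree_modByMonic_lt g hP fun e' => ?_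
      rw [e', natDegree_one] at hdeg
      omega
    have := hv (xi ^ (e - 1) * x ^ (2 * e - 1 - f.natDegree))
    rw [hβ, hτ (f * X ^ (2 * e - 1 - f.natDegree)) _ ?_ (by
        rw [natDegree_mul_X_pow _ hf0]; omega),
      coeff_mul_X_pow', if_pos (Nat.sub_le _ _), show 2 * e - 1 - (2 * e - 1 - f.natDegree) = f.natDegree by omega,
      ← leadingCoeff, leadingCoeff_eq_zero] at this
    · exact hf0 this
    · rw [map_mul, ← hXpow, hfv, mul_assoc, mul_right_comm (xi ^ (e - 1)), ← mul_pow, mul_comm xi x, hxxi,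
        one_pow, one_mul]
  have hV : Module.finrank F (AdjoinRoot P) = 2 * e := by
    rw [(AdjoinRoot.powerBasis' hP).finrank, AdjoinRoot.powerBasis'_dim, hdeg]
  -- transport to coordinates
  let b : Module.Basis (Fin (2 * e)) F (AdjoinRoot P) :=
    (AdjoinRoot.powerBasis' hP).basis.reindex (finCongr ((AdjoinRoot.powerBasis'_dim hP).trans hdeg))
  let E : AdjoinRoot P ≃ₗ[F] (Fin (2 * e) → F) := b.equivFun
  let G : AdjoinRoot P ≃ₗ[F] AdjoinRoot P :=
    { Semisimple.rootMul P with
      invFun := fun u => xi * u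
      left_inv := fun u => by
        show xi * (AdjoinRoot.root P * u) = u
        rw [← hx, ← mul_assoc, mul_comm xi x, hxxi, one_mul]
      right_inv := fun u => by
        show AdjoinRoot.root P * (xi * u) = u
        rw [← hx, ← mul_assoc, hxxi, one_mul] }
  have hG : ∀ u, G u = x * u := fun u => by rw [hx]; rfl
  let T : Sys F (Fin (2 * e) → F) :=
    { B := β.compl₁₂ E.symm.toLinearMap E.symm.toLinearMap
      g := (E.symm.trans G).trans E
      alt := fun u => halt _
      nondeg := fun u hu => E.symm.map_eq_zero_iff.1 (hnd _ fun w => by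
        have := hu (E w)
        rwa [LinearMap.compl₁₂_apply, LinearEquiv.coe_coe, E.symm_apply_apply] at this)
      inv := fun u v => by
        show β (E.symm (E (G (E.symm u)))) (E.symm (E (G (E.symm v)))) = β (E.symm u) (E.symm v)
        rw [E.symm_apply_apply, E.symm_apply_apply, hG, hG, hinvβ] }
  have hU : ∀ u, T.U (E u) = E (x * u) := fun u => by
    show E (G (E.symm (E u))) = _
    rw [E.symm_apply_apply, hG]
  have hUp : ∀ i u, (T.U ^ i) (E u) = E (x ^ i * u) := by
    intro i
    induction i with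
    | zero => intro u; rw [pow_zero, pow_zero, one_mul, Module.End.one_apply]
    | succ i ih => intro u; rw [pow_succ', Module.End.mul_apply, ih, hU, pow_succ', mul_assoc]
  have hchar : LinearMap.charpoly T.U = P := by
    have e1 : T.U = E.conj (Semisimple.rootMul P) := rfl
    rw [e1, LinearEquiv.charpoly_conj, Semisimple.charpoly_rootMul hP]
  have hNu : IsUnit T.N := by
    rw [LinearMap.isUnit_iff_ker_eq_bot, LinearMap.ker_eq_bot']
    intro u hu
    obtain ⟨z, rfl⟩ := E.surjective u
    have h1 : (x + 1) * z = 0 := by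
      rw [Sys.N, LinearMap.add_apply, Module.End.one_apply, hU, ← map_add, E.map_eq_zero_iff] at hu
      rw [add_mul, one_mul]; exact hu
    obtain ⟨R, hR⟩ := X_sub_C_dvd_sub_C_eval (p := P) (a := (1 : F))
    have hev : P.eval 1 = coefOf h e := by
      have hsum : P.eval 1 = ∑ i ∈ Finset.range (2 * e + 1), P.coeff i := by
        rw [eval_eq_sum_range, hdeg]; simp
      rw [hsum, show 2 * e + 1 = e + 1 + e by ring, Finset.sum_range_add, Finset.sum_range_succ]
      have h2 : ∑ i ∈ Finset.range e, P.coeff (e + 1 + i) = ∑ i ∈ Finset.range e, P.coeff i := by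
        rw [← Finset.sum_range_reflect (fun i => P.coeff i) e]
        refine Finset.sum_congr rfl fun i hi => ?_
        have := Finset.mem_range.1 hi
        rw [hpal (e + 1 + i) (by omega)]
        congr 1
        omega
      rw [h2, hco e (by omega), add_comm (∑ i ∈ Finset.range e, P.coeff i) (coefOf h e), add_assoc,
        CharTwo.add_self_eq_zero, add_zero]
    have h3 := congrArg (AdjoinRoot.mk P) hR
    rw [map_sub, AdjoinRoot.mk_self, map_mul, map_sub, AdjoinRoot.mk_X, map_one, map_one, hev, ← hx, zero_sub,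
      hneg, sub_eq_add_neg, hneg] at h3
    have h4 : AdjoinRoot.mk P (C (coefOf h e)) * z = 0 := by
      rw [h3, mul_right_comm, h1, zero_mul]
    have h5 : AdjoinRoot.mk P (C (coefOf h e)⁻¹) * AdjoinRoot.mk P (C (coefOf h e)) = 1 := by
      rw [← map_mul, ← map_mul, inv_mul_cancel₀ hne, map_one, map_one]
    have : z = 0 := by rw [← one_mul z, ← h5, mul_assoc, h4, mul_zero]
    rw [this, map_zero]
  obtain ⟨θu, hθu⟩ := hNu
  set θ : Module.End F (Fin (2 * e) → F) := ↑θu⁻¹ with hθ
  have hθN : ∀ u, θ (T.N u) = u ∧ T.N (θ u) = u := fun u => by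
    rw [← hθu, hθ, ← Module.End.mul_apply, ← Module.End.mul_apply, θu.inv_mul, θu.mul_inv]
    exact ⟨rfl, rfl⟩
  have hθU : Commute θ T.U :=
    ((show Commute T.U (θu : Module.End F (Fin (2 * e) → F)) by rw [hθu]; exact T.commute_N_U.symm).units_inv_right).symm
  let O : OSys F (Fin (2 * e) → F) :=
    { T with
      Q := fun u => T.B (θ u) u
      polar := fun a c => by
        have hkey : T.B (θ a) c + T.B (θ c) a = T.B a c := by
          obtain ⟨a', rfl⟩ : ∃ a', T.N a' = a := ⟨θ a, (hθN a).2⟩
          obtain ⟨c', rfl⟩ : ∃ c', T.N c' = c := ⟨θ c, (hθN c).2⟩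
          rw [(hθN a').1, (hθN c').1, ← T.M_adj a' c', T.B_symm c' (T.N a'), ← LinearMap.add_apply, ← map_add,
            add_comm (T.M a') (T.N a'), ← LinearMap.add_apply, ← T.S_eq, T.N_adj, ← Module.End.mul_apply,
            ← T.commute_N_M.eq, T.N_mul_M, T.S_adj]
        show T.B (θ (a + c)) (a + c) = T.B (θ a) a + T.B (θ c) c + T.B a c
        rw [← hkey, map_add θ, map_add (T.B), LinearMap.add_apply, map_add, map_add]
        ring
      Q_smul := fun r a => by
        show T.B (θ (r • a)) (r • a) = r ^ 2 * T.B (θ a) a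
        simp only [map_smul, LinearMap.smul_apply, smul_eq_mul]
        ring
      Q_inv := fun a => by
        show T.B (θ (T.U a)) (T.U a) = T.B (θ a) a
        rw [← Module.End.mul_apply, hθU.eq, Module.End.mul_apply]
        exact T.inv _ _ }
  refine ⟨O, hchar, ⟨θu, hθu⟩, gauss_cyclic O he (coefOf h) (coefOf_zero h) (coefOf_sym h) hne (E 1)
    (by rw [Module.finrank_fintype_fun_eq_card, Fintype.card_fin]) ?_ ?_ ?_ ?_⟩
  · show Submodule.span F (Set.range fun i : Fin (2 * e) => (T.U ^ (i : ℕ)) (E 1)) = ⊤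
    have e2 : (fun i : Fin (2 * e) => (T.U ^ (i : ℕ)) (E 1)) = ⇑E.toLinearMap ∘ ⇑b := by
      funext i
      rw [hUp, mul_one]
      show E (x ^ (i : ℕ)) = E (b i)
      congr 1
      rw [Module.Basis.reindex_apply, PowerBasis.basis_eq_pow, hx]
      rfl
    rw [e2, Set.range_comp, Submodule.span_image, b.span_eq, Submodule.map_top, LinearEquiv.range]
  · intro d hd
    show β (E.symm ((T.U ^ d) (E 1))) (E.symm (E 1)) = 0
    rw [hUp, mul_one, E.symm_apply_apply, E.symm_apply_apply, hpow d hd.le, if_neg hd.ne]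
  · show β (E.symm ((T.U ^ e) (E 1))) (E.symm (E 1)) = 1
    rw [hUp, mul_one, E.symm_apply_apply, E.symm_apply_apply, hpow e le_rfl, if_pos rfl]
  · show ∑ i ∈ Finset.range (2 * e + 1), coefOf h i • (T.U ^ i) (E 1) = 0
    simp only [hUp, mul_one, ← map_smul]
    rw [← map_sum, E.map_eq_zero_iff, hx, ← AdjoinRoot.eval₂_root P, eval₂_eq_sum_range, hdeg]
    refine Finset.sum_congr rfl fun i hi => ?_
    rw [hco i (by have := Finset.mem_range.1 hi; omega), Algebra.smul_def]
    rfl

end Cfsg.Agent.Small.SpEven
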