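import Mathlib
import Cfsg.Agent.Lib.Small.ClassNumberSp2.Main
import Cfsg.Agent.Lib.Small.ClassNumberOTwo.Gauss

/-!
The invariant quadratic form is determined by the alternating data and its Gauss sum.
-/

set_option autoImplicit false
set_option linter.unusedSectionVars false
set_option linter.style.haveILetI false

namespace Cfsg.Agent.Small.SpEven

universe u v w

variable {F : Type u} [Field F] [Fintype F] [CharP F 2]
variable {V : Type v} [AddCommGroup V] [Module F V] [FiniteDimensional F V]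
variable {V' : Type w} [AddCommGroup V'] [Module F V'] [FiniteDimensional F V']

/-- the kinds carrying a free bit of the quadratic form -/
def Kind.bottom : Kind → Bool
  | .V i => i == 1
  | .W k => k == 1

/-- subspaces with the same data, quadratic form included -/
def OEq (O : OSys F V) (O' : OSys F V') (W : Submodule F V) (W' : Submodule F V') : Prop :=
  ∃ (ι : Type) (x : ι → V) (x' : ι → V'), Submodule.span F (Set.range x) = W ∧
    Submodule.span F (Set.range x') = W' ∧ (∀ a b, O.B (x a) (x b) = O'.B (x' a) (x' b)) ∧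
    (∀ a b, O.B (O.toSys.N (x a)) (x b) = O'.B (O'.toSys.N (x' a)) (x' b)) ∧ ∀ a, O.Q (x a) = O'.Q (x' a)

variable {O : OSys F V} {O' : OSys F V'}

open Sys (tV tW1 tW2)

theorem OEq.bot : OEq O O' ⊥ ⊥ :=
  ⟨Empty, Empty.elim, Empty.elim, by simp, by simp, fun a => a.elim, fun a => a.elim, fun a => a.elim⟩

theorem OEq.sup {W₁ W₂ : Submodule F V} {W₁' W₂' : Submodule F V'} (h₁ : OEq O O' W₁ W₁')
    (h₂ : OEq O O' W₂ W₂') (ho : O.toSys.Orth W₁ W₂) (ho' : O'.toSys.Orth W₁' W₂') (hi : O.toSys.Inv W₁)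
    (hi' : O'.toSys.Inv W₁') (hj : O.toSys.Inv W₂) (hj' : O'.toSys.Inv W₂') :
    OEq O O' (W₁ ⊔ W₂) (W₁' ⊔ W₂') := by
  obtain ⟨ι, x, x', rfl, rfl, hB, hN, hQ⟩ := h₁
  obtain ⟨κ, y, y', rfl, rfl, hB2, hN2, hQ2⟩ := h₂
  have hm : ∀ a, x a ∈ Submodule.span F (Set.range x) := fun a => Submodule.subset_span ⟨a, rfl⟩
  have hm' : ∀ a, x' a ∈ Submodule.span F (Set.range x') := fun a => Submodule.subset_span ⟨a, rfl⟩
  have hn : ∀ a, y a ∈ Submodule.span F (Set.range y) := fun a => Submodule.subset_span ⟨a, rfl⟩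
  have hn' : ∀ a, y' a ∈ Submodule.span F (Set.range y') := fun a => Submodule.subset_span ⟨a, rfl⟩
  refine ⟨ι ⊕ κ, Sum.elim x y, Sum.elim x' y', ?_, ?_, ?_, ?_, ?_⟩
  · rw [Set.Sum.elim_range, Submodule.span_union]
  · rw [Set.Sum.elim_range, Submodule.span_union]
  · rintro (a | a) (b | b) <;> simp only [Sum.elim_inl, Sum.elim_inr]
    · exact hB a b
    · rw [ho _ (hm a) _ (hn b), ho' _ (hm' a) _ (hn' b)]
    · rw [ho.symm _ (hn a) _ (hm b), ho'.symm _ (hn' a) _ (hm' b)]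
    · exact hB2 a b
  · rintro (a | a) (b | b) <;> simp only [Sum.elim_inl, Sum.elim_inr]
    · exact hN a b
    · rw [ho _ (hi _ (hm a)) _ (hn b), ho' _ (hi' _ (hm' a)) _ (hn' b)]
    · rw [ho.symm _ (hj _ (hn a)) _ (hm b), ho'.symm _ (hj' _ (hn' a)) _ (hm' b)]
    · exact hN2 a b
  · rintro (a | a)
    exacts [hQ a, hQ2 a]

theorem OEq.exists_equiv {W : Submodule F V} {W' : Submodule F V'} (h : OEq O O' W W') (hW : O.toSys.ND W)
    (hW' : O'.toSys.ND W') (hi : O.toSys.Inv W) (hi' : O'.toSys.Inv W') :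
    ∃ φ : W ≃ₗ[F] W', (∀ x y : W, O'.B (φ x).1 (φ y).1 = O.B x.1 y.1) ∧ (∀ x : W, O'.Q (φ x).1 = O.Q x.1) ∧
      ∀ x : W, (φ ⟨O.toSys.N x.1, hi _ x.2⟩).1 = O'.toSys.N (φ x).1 := by
  obtain ⟨ι, x, x', hs, hs', hB, hN, hQ⟩ := h
  have hxm : ∀ a, x a ∈ W := fun a => hs ▸ Submodule.subset_span ⟨a, rfl⟩
  have hxm' : ∀ a, x' a ∈ W' := fun a => hs' ▸ Submodule.subset_span ⟨a, rfl⟩
  set L := Finsupp.linearCombination F (fun a => (⟨x a, hxm a⟩ : W)) with hL
  set L' := Finsupp.linearCombination F (fun a => (⟨x' a, hxm' a⟩ : W')) with hL'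
  have hsub : ∀ c, (L c).1 = Finsupp.linearCombination F x c := fun c => by
    simp [hL, Finsupp.linearCombination_apply, Finsupp.sum]
  have hsub' : ∀ c, (L' c).1 = Finsupp.linearCombination F x' c := fun c => by
    simp [hL', Finsupp.linearCombination_apply, Finsupp.sum]
  have hsur : Function.Surjective L := fun z => by
    obtain ⟨c, hc⟩ := (Finsupp.mem_span_range_iff_exists_finsupp).1 (show z.1 ∈ Submodule.span F (Set.range x) by rw [hs]; exact z.2)
    exact ⟨c, Subtype.ext ((hsub c).trans (by rw [Finsupp.linearCombination_apply]; exact hc))⟩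
  have hsur' : Function.Surjective L' := fun z => by
    obtain ⟨c, hc⟩ := (Finsupp.mem_span_range_iff_exists_finsupp).1 (show z.1 ∈ Submodule.span F (Set.range x') by rw [hs']; exact z.2)
    exact ⟨c, Subtype.ext ((hsub' c).trans (by rw [Finsupp.linearCombination_apply]; exact hc))⟩
  have hBL : ∀ c d, O.B (L c).1 (L d).1 = O'.B (L' c).1 (L' d).1 := by
    intro c d
    simp only [hsub, hsub', Finsupp.linearCombination_apply, Finsupp.sum, map_sum, map_smul, LinearMap.sum_apply,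
      LinearMap.smul_apply, hB]
  have hNL : ∀ c d, O.B (O.toSys.N (L c).1) (L d).1 = O'.B (O'.toSys.N (L' c).1) (L' d).1 := by
    intro c d
    simp only [hsub, hsub', Finsupp.linearCombination_apply, Finsupp.sum, map_sum, map_smul, LinearMap.sum_apply,
      LinearMap.smul_apply, hN]
  have hQL : ∀ c, O.Q (L c).1 = O'.Q (L' c).1 := by
    intro c
    induction c using Finsupp.induction_linear with
    | zero => simp [O.Q_zero, O'.Q_zero]
    | add c d hc hd => rw [map_add, map_add, Submodule.coe_add, Submodule.coe_add, O.polar, O'.polar, hc, hd, hBL]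
    | single a r =>
      rw [hsub, hsub', Finsupp.linearCombination_single, Finsupp.linearCombination_single, O.Q_smul, O'.Q_smul, hQ]
  have hker : LinearMap.ker L = LinearMap.ker L' := by
    ext c
    simp only [LinearMap.mem_ker]
    constructor
    · intro hc
      refine Subtype.ext (hW' _ (L' c).2 fun y hy => ?_)
      obtain ⟨d, hd⟩ := hsur' ⟨y, hy⟩
      rw [show y = (L' d).1 by rw [hd], ← hBL, hc, Submodule.coe_zero, map_zero, LinearMap.zero_apply]
    · intro hc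
      refine Subtype.ext (hW _ (L c).2 fun y hy => ?_)
      obtain ⟨d, hd⟩ := hsur ⟨y, hy⟩
      rw [show y = (L d).1 by rw [hd], hBL, hc, Submodule.coe_zero, map_zero, LinearMap.zero_apply]
  let φ : W ≃ₗ[F] W' := ((L.quotKerEquivOfSurjective hsur).symm.trans (Submodule.quotEquivOfEq _ _ hker)).trans
    (L'.quotKerEquivOfSurjective hsur')
  have hφ : ∀ c, φ (L c) = L' c := fun c => by
    have h1 : (L.quotKerEquivOfSurjective hsur).symm (L c) = Submodule.Quotient.mk c := by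
      rw [LinearEquiv.symm_apply_eq]; rfl
    show (L'.quotKerEquivOfSurjective hsur') (Submodule.quotEquivOfEq _ _ hker
      ((L.quotKerEquivOfSurjective hsur).symm (L c))) = _
    rw [h1]
    rfl
  refine ⟨φ, fun a b => ?_, fun a => ?_, fun a => ?_⟩
  · obtain ⟨c, rfl⟩ := hsur a
    obtain ⟨d, rfl⟩ := hsur b
    rw [hφ, hφ, hBL]
  · obtain ⟨c, rfl⟩ := hsur a
    rw [hφ, hQL]
  · obtain ⟨c, rfl⟩ := hsur a
    obtain ⟨e, he⟩ := hsur ⟨O.toSys.N (L c).1, hi _ (L c).2⟩
    rw [← he, hφ, hφ, ← sub_eq_zero]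
    refine hW' _ (W'.sub_mem (L' e).2 (hi' _ (L' c).2)) fun y hy => ?_
    obtain ⟨d, hd⟩ := hsur' ⟨y, hy⟩
    rw [show y = (L' d).1 by rw [hd], map_sub, LinearMap.sub_apply, ← hBL, ← hNL, he, sub_self]

theorem OEq.gauss_eq {W : Submodule F V} {W' : Submodule F V'} (h : OEq O O' W W') (hW : O.toSys.ND W)
    (hW' : O'.toSys.ND W') (hi : O.toSys.Inv W) (hi' : O'.toSys.Inv W') : O.gauss W = O'.gauss W' := by
  classical
  obtain ⟨φ, -, hQ, -⟩ := h.exists_equiv hW hW' hi hi'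
  haveI : Finite V := Module.finite_of_finite F
  haveI : Finite V' := Module.finite_of_finite F
  haveI := Fintype.ofFinite V
  haveI := Fintype.ofFinite V'
  rw [O.gauss_eq, O'.gauss_eq]
  exact Fintype.sum_bijective φ φ.bijective _ _ fun x => by rw [hQ]

namespace OSys

variable (O)

theorem mu_zero_of_ker {y : V} (hy : O.toSys.N y = 0) : O.toSys.mu 0 y = 0 :=
  O.toSys.mu_hi (k := 1) (by rwa [pow_one]) (by omega)

theorem normal_V {i : ℕ} {b : Bool} (hi : 2 ≤ i) {C : Submodule F V} (h : O.toSys.Piece (.V i, b) C) :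
    ∃ x, O.toSys.CanV i b x ∧ C = Submodule.span F (Set.range (O.toSys.famV (2 * i) x)) ∧ O.Q x = 0 := by
  obtain ⟨-, x, ⟨hx, hμ⟩, rfl⟩ := h
  set T := O.toSys with hT
  have hxk := hx.2.1
  set z := (T.S ^ (i - 1)) (T.N x) with hz
  set x' := x + O.Q x • z with hx'
  have hzC : z ∈ Submodule.span F (Set.range (T.famV (2 * i) x)) :=
    (T.inv_famV hxk).S_pow_mem hxk (i - 1) (T.inv_famV hxk x hx.mem)
      (by rw [← Module.End.mul_apply, ← pow_succ, T.pow_zero_of_le hxk (Nat.le_succ _)])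
  have hxm' : x' ∈ Submodule.span F (Set.range (T.famV (2 * i) x)) :=
    Submodule.add_mem _ hx.mem (Submodule.smul_mem _ _ hzC)
  have hμ' : ∀ j, T.mu j x' = tV i b j := by
    intro j
    rw [hx', hz, T.mu_shift_V, T.mu_hi_V hxk (show i ≤ j + 2 * (i - 1) + 1 by omega),
      T.mu_hi_V hxk (show i ≤ j + 1 + (i - 1) by omega), mul_zero, mul_zero, add_zero, add_zero, hμ]
  have hk' : (T.N ^ (2 * i)) x' = 0 := by
    have hle : Submodule.span F (Set.range (T.famV (2 * i) x)) ≤ LinearMap.ker (T.N ^ (2 * i)) := by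
      rw [Submodule.span_le]
      rintro _ ⟨a, rfl⟩
      show (T.N ^ (2 * i)) ((T.N ^ (a : ℕ)) x) = 0
      rw [T.N_pow_apply, T.pow_zero_of_le hxk (Nat.le_add_right _ _)]
    exact hle hxm'
  have hV : T.IsV i x' := ⟨hx.1, hk', by rw [hμ', tV, if_pos (by omega)]; exact one_ne_zero⟩
  refine ⟨x', ⟨hV, hμ'⟩, (hx.span_eq hV hxm').symm, ?_⟩
  have hQz : O.Q z = 0 := by
    rw [hz, ← Module.End.mul_apply, ← (T.commute_N_S.pow_right (i - 1)).eq, Module.End.mul_apply, O.Q_N, ← hT,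
      T.mu_S_pow, T.mu_hi_V hxk (show i ≤ 0 + 2 * (i - 1) by omega)]
  have hBz : O.B x z = 1 := by
    rw [show O.B x z = T.B z x from O.toSys.B_symm x z, hz]
    show T.mu (i - 1) x = 1
    rw [hμ, tV, if_pos (by omega)]
  rw [hx', O.polar, O.Q_smul, hQz, mul_zero, add_zero, map_smul, smul_eq_mul, hBz, mul_one,
    CharTwo.add_self_eq_zero]

theorem fix_Q {k : ℕ} (hk : 2 ≤ k) {v w : V} (hW : O.toSys.IsW k v w)
    (h1 : O.toSys.B ((O.toSys.N ^ (k - 1)) v) w = 1) (hq : ∀ j, k < 2 * j + 3 → O.toSys.mu j w = 0) :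
    ∃ v', O.toSys.IsW k v' w ∧ v' ∈ Submodule.span F (Set.range (O.toSys.famW k v w)) ∧ O.Q v' = 0 ∧
      (∀ j, O.toSys.mu j v' = O.toSys.mu j v) ∧
      ∀ a, O.toSys.B ((O.toSys.N ^ a) v') w = O.toSys.B ((O.toSys.N ^ a) v) w ∧
        O.toSys.B ((O.toSys.N ^ a) w) v' = O.toSys.B ((O.toSys.N ^ a) w) v := by
  set T := O.toSys with hT
  obtain ⟨hk1, hv, hw, he, hvv, hww⟩ := id hW
  set c := O.Q v with hc
  set v' := v + c • (T.N ^ (k - 1)) w with hv'
  have hz : ∀ a, 1 ≤ a → (T.N ^ a) ((T.N ^ (k - 1)) w) = 0 := fun a ha => by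
    rw [T.N_pow_apply, T.pow_zero_of_le hw (by omega)]
  have htopv : (T.N ^ (k - 1)) v' = (T.N ^ (k - 1)) v := by
    rw [hv', map_add, map_smul, hz _ (by omega), smul_zero, add_zero]
  have hpair : ∀ a, T.B ((T.N ^ a) v') w = T.B ((T.N ^ a) v) w ∧ T.B ((T.N ^ a) w) v' = T.B ((T.N ^ a) w) v := by
    intro a
    rw [hv', map_add, map_smul, map_add, LinearMap.add_apply, map_smul, LinearMap.smul_apply, map_add, map_smul]
    constructor
    · rcases Nat.eq_zero_or_pos a with rfl | ha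
      · rw [pow_zero, Module.End.one_apply, Module.End.one_apply, hww, smul_zero, add_zero]
      · rw [hz a ha, map_zero, LinearMap.zero_apply, smul_zero, add_zero]
    · rw [T.B_N_N_top hw (show k ≤ a + (k - 1) + 1 by omega), hww]
      simp
  refine ⟨v', ⟨hk1, ?_, hw, by rw [htopv]; exact he, ?_, hww⟩, ?_, ?_, fun j => ?_, hpair⟩
  · rw [hv', map_add, map_smul, hv, hz k hk1, smul_zero, add_zero]
  · rw [htopv, hv', map_add, hvv, zero_add, map_smul, T.B_N_N_top hv (show k ≤ k - 1 + (k - 1) + 1 by omega),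
      if_neg (by omega), smul_zero]
  · have h0 : T.famW k v w (Sum.inl ⟨0, by omega⟩) ∈ Submodule.span F (Set.range (T.famW k v w)) :=
      Submodule.subset_span (Set.mem_range_self _)
    have h2 : T.famW k v w (Sum.inr ⟨k - 1, by omega⟩) ∈ Submodule.span F (Set.range (T.famW k v w)) :=
      Submodule.subset_span (Set.mem_range_self _)
    exact Submodule.add_mem _ h0 (Submodule.smul_mem _ c h2)
  · have hQz : O.Q ((T.N ^ (k - 1)) w) = 0 := by
      obtain ⟨a, ha⟩ : ∃ a, k - 1 = a + 1 := ⟨k - 2, by omega⟩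
      rw [ha, hT, O.Q_N_pow, ← hT, hq a (by omega)]
    have hBz : O.B v ((T.N ^ (k - 1)) w) = 1 := by
      rw [hT, O.toSys.B_symm, ← hT, hW.top_swap, h1]
    rw [hv', O.polar, O.Q_smul, hQz, mul_zero, add_zero, map_smul, smul_eq_mul, hBz, mul_one, ← hc,
      CharTwo.add_self_eq_zero]
  · rw [hv', T.mu_shift_W hv c (by omega), hq (j + (k - 1)) (by omega), if_neg (by omega), mul_zero, mul_zero,
      add_zero, add_zero]

theorem normal_W {k : ℕ} {b : Bool} (hk : 2 ≤ k) {C : Submodule F V} (h : O.toSys.Piece (.W k, b) C) :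
    ∃ x y, O.toSys.CanW k b x y ∧ C = Submodule.span F (Set.range (O.toSys.famW k x y)) ∧ O.Q x = 0 ∧ O.Q y = 0 := by
  obtain ⟨-, v, w, ⟨hW, hp, hv1, hw1⟩, rfl⟩ := h
  have htop : O.toSys.B ((O.toSys.N ^ (k - 1)) v) w = 1 := by rw [hp _ (by omega), if_pos (by omega)]
  have hz1 : ∀ j, k < 2 * j + 3 → O.toSys.mu j w = 0 := fun j hj => by
    rw [hw1, tW2, if_neg (by omega)]
  obtain ⟨v', hW', hm', hQ', hμ', hp'⟩ := O.fix_Q hk hW htop hz1
  have hz2 : ∀ j, k < 2 * j + 3 → O.toSys.mu j v' = 0 := fun j hj => by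
    rw [hμ', hv1, tW1, if_neg (by omega)]
  have htop' : O.toSys.B ((O.toSys.N ^ (k - 1)) w) v' = 1 := by rw [hW'.top_swap, (hp' _).1, htop]
  obtain ⟨w', hW'', hm'', hQ'', hμ'', hp''⟩ := O.fix_Q hk hW'.symm htop' hz2
  have hinv := O.toSys.inv_famW hW.2.1 hW.2.2.1
  have hwC : w ∈ Submodule.span F (Set.range (O.toSys.famW k v w)) :=
    Submodule.subset_span ⟨Sum.inr ⟨0, by omega⟩, rfl⟩
  have hw'C := O.toSys.famW_le hinv hwC hm' hm''
  refine ⟨v', w', ⟨hW''.symm, fun a ha => ?_, fun j => (hμ' j).trans (hv1 j), fun j => (hμ'' j).trans (hw1 j)⟩,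
    (hW.span_eq hW''.symm hm' hw'C).symm, hQ', hQ''⟩
  rw [(hp'' a).2, (hp' a).1, hp a ha]

end OSys

theorem oEq_pieceV {i : ℕ} {x : V} {x' : V'} {b : Bool} (hx : O.toSys.CanV i b x) (hx' : O'.toSys.CanV i b x')
    (hQ : O.Q x = O'.Q x') : OEq O O' (Submodule.span F (Set.range (O.toSys.famV (2 * i) x)))
      (Submodule.span F (Set.range (O'.toSys.famV (2 * i) x'))) := by
  have hp := pair_eq (T := O.toSys) (T' := O'.toSys) (y := x) (y' := x') hx.1.2.1 hx'.1.2.1
    fun l _ => self_eq (fun j => (hx.2 j).trans (hx'.2 j).symm) l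
  refine ⟨Fin (2 * i), O.toSys.famV (2 * i) x, O'.toSys.famV (2 * i) x', rfl, rfl, fun a c => hp c a,
    fun a c => ?_, fun a => ?_⟩
  · simp only [Sys.famV, ← Module.End.mul_apply, ← pow_succ']
    exact hp c (a + 1)
  · obtain ⟨a, ha⟩ := a
    rcases a with _ | a
    · exact hQ
    · simp only [Sys.famV, O.Q_N_pow, O'.Q_N_pow, hx.2, hx'.2]

theorem oEq_pieceW {k : ℕ} {x y : V} {x' y' : V'} {b : Bool} (hx : O.toSys.CanW k b x y)
    (hx' : O'.toSys.CanW k b x' y') (hQ : O.Q x = O'.Q x') (hQ' : O.Q y = O'.Q y') :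
    OEq O O' (Submodule.span F (Set.range (O.toSys.famW k x y)))
      (Submodule.span F (Set.range (O'.toSys.famW k x' y'))) := by
  have hxy : ∀ l < k, O.toSys.B ((O.toSys.N ^ l) x) y = O'.toSys.B ((O'.toSys.N ^ l) x') y' := fun l hl => by
    rw [hx.2.1 l hl, hx'.2.1 l hl]
  have p1 := pair_eq (T := O.toSys) (T' := O'.toSys) (y := x) (y' := x') hx.1.2.1 hx'.1.2.1
    fun l _ => self_eq (fun j => (hx.2.2.1 j).trans (hx'.2.2.1 j).symm) l
  have p2 := pair_eq (T := O.toSys) (T' := O'.toSys) (y := y) (y' := y') hx.1.2.2.1 hx'.1.2.2.1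
    fun l _ => self_eq (fun j => (hx.2.2.2 j).trans (hx'.2.2.2 j).symm) l
  have p3 := pair_eq (T := O.toSys) (T' := O'.toSys) (y := y) (y' := y') hx.1.2.1 hx'.1.2.1 hxy
  have p4 : ∀ c a, O.B ((O.toSys.N ^ a) y) ((O.toSys.N ^ c) x) =
      O'.B ((O'.toSys.N ^ a) y') ((O'.toSys.N ^ c) x') := fun c a => by
    rw [O.toSys.B_symm, O'.toSys.B_symm, p3]
  refine ⟨Fin k ⊕ Fin k, O.toSys.famW k x y, O'.toSys.famW k x' y', rfl, rfl, ?_, ?_, ?_⟩
  · rintro (a | a) (c | c) <;> simp only [Sys.famW, Sys.famV, Sum.elim_inl, Sum.elim_inr]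
    exacts [p1 c a, p3 c a, p4 c a, p2 c a]
  · rintro (a | a) (c | c) <;>
      simp only [Sys.famW, Sys.famV, Sum.elim_inl, Sum.elim_inr, ← Module.End.mul_apply, ← pow_succ']
    exacts [p1 c (a + 1), p3 c (a + 1), p4 c (a + 1), p2 c (a + 1)]
  · rintro (⟨a, ha⟩ | ⟨a, ha⟩) <;> rcases a with _ | a
    · exact hQ
    · simp only [Sys.famW, Sys.famV, Sum.elim_inl, O.Q_N_pow, O'.Q_N_pow, hx.2.2.1, hx'.2.2.1]
    · exact hQ'
    · simp only [Sys.famW, Sys.famV, Sum.elim_inr, O.Q_N_pow, O'.Q_N_pow, hx.2.2.2, hx'.2.2.2]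

theorem oEq_not_bottom {t : Tag} (ht : t.1.bottom = false) {C : Submodule F V} {C' : Submodule F V'}
    (h : O.toSys.Piece t C) (h' : O'.toSys.Piece t C') : OEq O O' C C' := by
  obtain ⟨i | k, b⟩ := t
  · have hi : 2 ≤ i := by
      have := h.wf.1
      have h0 : i ≠ 1 := by simpa [Kind.bottom] using ht
      omega
    obtain ⟨x, hx, rfl, hQ⟩ := O.normal_V hi h
    obtain ⟨x', hx', rfl, hQ'⟩ := O'.normal_V hi h'
    exact oEq_pieceV hx hx' (hQ.trans hQ'.symm)
  · have hk : 2 ≤ k := by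
      have := h.wf.1
      have h0 : k ≠ 1 := by simpa [Kind.bottom] using ht
      omega
    obtain ⟨x, y, hx, rfl, hQ, hR⟩ := O.normal_W hk h
    obtain ⟨x', y', hx', rfl, hQ', hR'⟩ := O'.normal_W hk h'
    exact oEq_pieceW hx hx' (hQ.trans hQ'.symm) (hR.trans hR'.symm)

theorem span_famV_two (T : Sys F V) (x : V) :
    Submodule.span F (Set.range (T.famV (2 * 1) x)) = Submodule.span F {T.N x, x} := by
  congr 1
  ext z
  constructor
  · rintro ⟨a, rfl⟩
    fin_cases a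
    · exact Or.inr rfl
    · exact Or.inl (by show (T.N ^ 1) x = T.N x; rw [pow_one])
  · rintro (rfl | rfl)
    · exact ⟨⟨1, by omega⟩, by show (T.N ^ 1) x = T.N x; rw [pow_one]⟩
    · exact ⟨⟨0, by omega⟩, rfl⟩

theorem span_famW_one (T : Sys F V) (x y : V) :
    Submodule.span F (Set.range (T.famW 1 x y)) = Submodule.span F {x, y} := by
  congr 1
  ext z
  constructor
  · rintro ⟨a | a, rfl⟩
    · fin_cases a; exact Or.inl rfl
    · fin_cases a; exact Or.inr rfl
  · rintro (rfl | rfl)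
    · exact ⟨Sum.inl 0, rfl⟩
    · exact ⟨Sum.inr 0, rfl⟩

theorem bottom_tag {t : Tag} (ht : t.1.bottom = true) (hwf : Wf t) :
    t = (Kind.V 1, false) ∨ t = (Kind.W 1, false) := by
  obtain ⟨i | k, b⟩ := t
  · obtain rfl : i = 1 := by simpa [Kind.bottom] using ht
    cases b with
    | false => exact Or.inl rfl
    | true => exact absurd (hwf.2 rfl) (by omega)
  · obtain rfl : k = 1 := by simpa [Kind.bottom] using ht
    cases b with
    | false => exact Or.inr rfl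
    | true => obtain ⟨q, hq⟩ := hwf.2 rfl; omega

theorem canV_one {T : Sys F V} {x : V} (hk : (T.N ^ (2 * 1)) x = 0) (h1 : T.mu 0 x = 1) : T.CanV 1 false x := by
  refine ⟨⟨le_rfl, hk, by rw [h1]; exact one_ne_zero⟩, fun j => ?_⟩
  rcases Nat.eq_zero_or_pos j with rfl | hj
  · rw [h1, tV, if_pos rfl]
  · rw [T.mu_hi_V hk (show 1 ≤ j by omega), tV, if_neg (by omega), if_neg (by omega)]

theorem canW_one {T : Sys F V} {x y : V} (hx : T.N x = 0) (hy : T.N y = 0) (h1 : T.B x y = 1) :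
    T.CanW 1 false x y := by
  refine ⟨⟨le_rfl, by rwa [pow_one], by rwa [pow_one], ?_, T.alt x, T.alt y⟩, fun a ha => ?_, fun j => ?_,
    fun j => ?_⟩
  · show T.B x y ≠ 0; rw [h1]; exact one_ne_zero
  · obtain rfl : a = 0 := by omega
    rw [if_pos rfl]; exact h1
  · rw [T.mu_hi (k := 1) (by rwa [pow_one]) (by omega), tW1, if_neg (by simp)]
  · rw [T.mu_hi (k := 1) (by rwa [pow_one]) (by omega), tW2, if_neg (by simp)]

namespace OSys

variable (O)

theorem normal_V1 {C : Submodule F V} (h : O.toSys.Piece (.V 1, false) C) :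
    ∃ x, O.toSys.CanV 1 false x ∧ C = Submodule.span F (Set.range (O.toSys.famV (2 * 1) x)) ∧
      (O.Q x = 0 ∧ O.gauss C = Fintype.card F ∨ O.Q x = delta F ∧ O.gauss C = -(Fintype.card F : ℤ)) := by
  obtain ⟨-, x, ⟨hx, hμ⟩, rfl⟩ := h
  have hk := hx.2.1
  have h1 : O.toSys.mu 0 x = 1 := by rw [hμ, tV, if_pos rfl]
  have hB : O.B (O.toSys.N x) x = 1 := h1
  have hgauss := O.gauss_plane hB
  rw [← span_famV_two, O.Q_N, h1, one_mul] at hgauss
  obtain ⟨c, r, hc, hr⟩ : ∃ c r, c ^ 2 + c = O.Q x + r ∧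
      (r = 0 ∧ chi (O.Q x) = 1 ∨ r = delta F ∧ chi (O.Q x) = -1) := by
    by_cases hs : ∃ c : F, c ^ 2 + c = O.Q x
    · obtain ⟨c, hc⟩ := hs
      exact ⟨c, 0, by rw [hc, add_zero], Or.inl ⟨rfl, chi_eq_one ⟨c, hc⟩⟩⟩
    · obtain ⟨c, hc⟩ := artin_schreier _ fun c hc => hs ⟨c, hc⟩
      exact ⟨c, delta F, hc, Or.inr ⟨rfl, chi_eq_neg_one fun c hc => hs ⟨c, hc⟩⟩⟩
  set x' := x + c • O.toSys.N x with hx'
  have hm : x' ∈ Submodule.span F (Set.range (O.toSys.famV (2 * 1) x)) :=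
    Submodule.add_mem _ hx.mem (Submodule.smul_mem _ _ (O.toSys.inv_famV hk x hx.mem))
  have hQ : O.Q x' = r := by
    rw [hx', O.polar, O.Q_smul, O.Q_N, h1, map_smul, smul_eq_mul, O.toSys.B_symm x, hB, mul_one, mul_one, add_assoc,
      hc, ← add_assoc, CharTwo.add_self_eq_zero, zero_add]
  have hk' : (O.toSys.N ^ (2 * 1)) x' = 0 := by
    rw [hx', map_add, map_smul, hk, zero_add, ← Module.End.mul_apply, ← pow_succ,
      O.toSys.pow_zero_of_le hk (Nat.le_succ _), smul_zero]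
  have h1' : O.toSys.mu 0 x' = 1 := by
    have := O.toSys.mu_shift_V (m := 0) (v := x) c 0
    rw [pow_zero, Module.End.one_apply] at this
    rw [hx', this, O.toSys.mu_hi_V hk (by omega : 1 ≤ 0 + 2 * 0 + 1), h1]
    ring
  have hcan := canV_one hk' h1'
  refine ⟨x', hcan, (hx.span_eq hcan.1 hm).symm, ?_⟩
  rcases hr with ⟨rfl, hchi⟩ | ⟨rfl, hchi⟩ <;> rw [hchi] at hgauss
  · exact Or.inl ⟨hQ, by rw [hgauss, mul_one]⟩
  · exact Or.inr ⟨hQ, by rw [hgauss, mul_neg, mul_one]⟩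

theorem normal_W1 {C : Submodule F V} (h : O.toSys.Piece (.W 1, false) C) :
    ∃ x y, O.toSys.CanW 1 false x y ∧ C = Submodule.span F (Set.range (O.toSys.famW 1 x y)) ∧
      (O.Q x = 0 ∧ O.Q y = 0 ∧ O.gauss C = Fintype.card F ∨
        O.Q x = 1 ∧ O.Q y = delta F ∧ O.gauss C = -(Fintype.card F : ℤ)) := by
  obtain ⟨-, v, w, hcan, rfl⟩ := h
  obtain ⟨hW, hp, -, -⟩ := id hcan
  have hNv : O.toSys.N v = 0 := by simpa using hW.2.1
  have hNw : O.toSys.N w = 0 := by simpa using hW.2.2.1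
  have hB : O.B v w = 1 := by simpa using hp 0 one_pos
  have hgauss := O.gauss_plane hB
  rw [← span_famW_one O.toSys] at hgauss
  set C := Submodule.span F (Set.range (O.toSys.famW 1 v w)) with hC
  have hvC : v ∈ C := Submodule.subset_span ⟨Sum.inl 0, rfl⟩
  have hwC : w ∈ C := Submodule.subset_span ⟨Sum.inr 0, rfl⟩
  have build : ∀ x y : V, x ∈ C → y ∈ C → O.toSys.N x = 0 → O.toSys.N y = 0 → O.B x y = 1 →
      O.toSys.CanW 1 false x y ∧ C = Submodule.span F (Set.range (O.toSys.famW 1 x y)) :=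
    fun x y hx hy hNx hNy hxy => ⟨canW_one hNx hNy hxy, (hW.span_eq (canW_one hNx hNy hxy).1 hx hy).symm⟩
  by_cases hs : ∃ c : F, c ^ 2 + c = O.Q v * O.Q w
  · obtain ⟨c, hc⟩ := hs
    rw [chi_eq_one ⟨c, hc⟩, mul_one] at hgauss
    -- an isotropic vector and a partner
    obtain ⟨x, y, hx, hy, hNx, hNy, hxy, hQx⟩ : ∃ x y : V, x ∈ C ∧ y ∈ C ∧ O.toSys.N x = 0 ∧ O.toSys.N y = 0 ∧
        O.B x y = 1 ∧ O.Q x = 0 := by
      by_cases hv0 : O.Q v = 0
      · exact ⟨v, w, hvC, hwC, hNv, hNw, hB, hv0⟩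
      · refine ⟨w + (c / O.Q v) • v, v, C.add_mem hwC (C.smul_mem _ hvC), hvC,
          by rw [map_add, map_smul, hNv, hNw, smul_zero, add_zero], hNv, ?_, ?_⟩
        · rw [map_add, map_smul, LinearMap.add_apply, LinearMap.smul_apply, O.alt, smul_zero, add_zero,
            O.toSys.B_symm, hB]
        · rw [O.polar, O.Q_smul, map_smul, smul_eq_mul, O.toSys.B_symm w v, hB, mul_one]
          field_simp
          linear_combination hc + O.Q v * O.Q w * CharTwo.two_eq_zero (R := F)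
    set y' := y + O.Q y • x with hy'
    have hQy : O.Q y' = 0 := by
      rw [hy', O.polar, O.Q_smul, hQx, mul_zero, add_zero, map_smul, smul_eq_mul, O.toSys.B_symm y x, hxy, mul_one,
        CharTwo.add_self_eq_zero]
    have hxy' : O.B x y' = 1 := by rw [hy', map_add, map_smul, O.alt, smul_zero, add_zero, hxy]
    obtain ⟨b1, b2⟩ := build x y' hx (C.add_mem hy (C.smul_mem _ hx)) hNx
      (by rw [hy', map_add, map_smul, hNx, hNy, smul_zero, add_zero]) hxy'
    exact ⟨x, y', b1, b2, Or.inl ⟨hQx, hQy, hgauss⟩⟩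
  · rw [chi_eq_neg_one fun c hc => hs ⟨c, hc⟩, mul_neg, mul_one] at hgauss
    have hv0 : O.Q v ≠ 0 := fun h0 => hs ⟨0, by rw [h0]; ring⟩
    obtain ⟨s, hsq⟩ := exists_sqrt (O.Q v)⁻¹
    have hs0 : s ≠ 0 := fun h0 => inv_ne_zero hv0 (by rw [← hsq, h0]; ring)
    obtain ⟨c, hc⟩ := artin_schreier _ fun c hc => hs ⟨c, hc⟩
    set x := s • v with hxdef
    set y := s⁻¹ • w + c • x with hydef
    have hQx : O.Q x = 1 := by rw [hxdef, O.Q_smul, hsq, inv_mul_cancel₀ hv0]
    have hxw : O.B x (s⁻¹ • w) = 1 := by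
      rw [hxdef, map_smul, map_smul, LinearMap.smul_apply, hB, smul_eq_mul, smul_eq_mul]
      field_simp
    have hQy : O.Q y = delta F := by
      rw [hydef, O.polar, O.Q_smul, O.Q_smul, hQx, mul_one, map_smul (O.B (s⁻¹ • w)), smul_eq_mul,
        O.toSys.B_symm (s⁻¹ • w) x, hxw, mul_one, inv_pow, hsq, inv_inv, add_assoc, hc, ← add_assoc,
        CharTwo.add_self_eq_zero, zero_add]
    have hxy : O.B x y = 1 := by rw [hydef, map_add, map_smul _ c x, O.alt, smul_zero, add_zero, hxw]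
    obtain ⟨b1, b2⟩ := build x y (C.smul_mem _ hvC) (C.add_mem (C.smul_mem _ hwC) (C.smul_mem _ (C.smul_mem _ hvC)))
      (by rw [hxdef, map_smul, hNv, smul_zero])
      (by rw [hydef, hxdef, map_add, map_smul, map_smul, map_smul, hNv, hNw, smul_zero, smul_zero, smul_zero, add_zero])
      hxy
    exact ⟨x, y, b1, b2, Or.inr ⟨hQx, hQy, hgauss⟩⟩

/-- Of two bottom summands one can be taken split. -/
theorem bottom_move {t s : Tag} {C D : Submodule F V} (ht : t.1.bottom = true) (hs : s.1.bottom = true)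
    (hC : O.toSys.Piece t C) (hD : O.toSys.Piece s D) (ho : O.toSys.Orth C D) :
    ∃ X Z, O.toSys.Piece t X ∧ O.toSys.Piece s Z ∧ O.toSys.Orth X Z ∧ X ⊔ Z = C ⊔ D ∧
      O.gauss X = Fintype.card F := by
  obtain ⟨y, hy, hNy, hQy⟩ : ∃ y ∈ D, O.toSys.N y = 0 ∧ O.Q y ≠ 0 := by
    rcases bottom_tag hs hD.wf with rfl | rfl
    · obtain ⟨w, ⟨hw, hμ⟩, rfl, -⟩ := O.normal_V1 hD
      refine ⟨O.toSys.N w, O.toSys.inv_famV hw.2.1 w hw.mem, ?_, by rw [O.Q_N, hμ, tV, if_pos rfl]; exact one_ne_zero⟩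
      rw [← Module.End.mul_apply, ← pow_two]; exact hw.2.1
    · obtain ⟨v, w, ⟨hW, hp, -, -⟩, rfl, hQ⟩ := O.normal_W1 hD
      have hNv : O.toSys.N v = 0 := by simpa using hW.2.1
      have hNw : O.toSys.N w = 0 := by simpa using hW.2.2.1
      have hB : O.B v w = 1 := by simpa using hp 0 one_pos
      have hv : v ∈ Submodule.span F (Set.range (O.toSys.famW 1 v w)) := Submodule.subset_span ⟨Sum.inl 0, rfl⟩
      have hw' : w ∈ Submodule.span F (Set.range (O.toSys.famW 1 v w)) := Submodule.subset_span ⟨Sum.inr 0, rfl⟩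
      rcases hQ with ⟨h1, h2, -⟩ | ⟨h1, -, -⟩
      · exact ⟨v + w, Submodule.add_mem _ hv hw', by rw [map_add, hNv, hNw, add_zero],
          by rw [O.polar, h1, h2, hB, zero_add, zero_add]; exact one_ne_zero⟩
      · exact ⟨v, hv, hNv, by rw [h1]; exact one_ne_zero⟩
  have hnd := hC.nd.sup hD.nd ho
  have hinv := hC.inv.sup hD.inv
  suffices hX : ∃ X, O.toSys.Piece t X ∧ X ≤ C ⊔ D ∧ C ≤ X ⊔ D ∧ O.gauss X = Fintype.card F by
    obtain ⟨X, hXp, hXle, hCle, hg⟩ := hX
    have hsup : X ⊔ D = C ⊔ D := le_antisymm (sup_le hXle le_sup_right) (sup_le hCle le_sup_right)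
    have hdimCD := Submodule.finrank_sup_add_finrank_inf_eq C D
    rw [hC.nd.inf_eq_bot ho, finrank_bot, add_zero] at hdimCD
    obtain ⟨Z, b, hZ, hoZ, hsupZ⟩ := O.toSys.exchange hnd hinv hD le_sup_right hXp hXle hsup
      (by rw [hdimCD, hXp.finrank, hC.finrank]) (fun k hk => by
        rcases bottom_tag hs hD.wf with rfl | rfl
        · simp at hk
        · exact ⟨0, by simp at hk; omega⟩)
    have hb : (s.1, b) = s := by
      rcases bottom_tag (t := (s.1, b)) hs hZ.wf with h | h <;> rcases bottom_tag hs hD.wf with h' | h' <;>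
        simp_all
    exact ⟨X, Z, hXp, hb ▸ hZ, hoZ, hsupZ, hg⟩
  rcases bottom_tag ht hC.wf with rfl | rfl
  · obtain ⟨x, ⟨hx, hμ⟩, rfl, -⟩ := O.normal_V1 hC
    obtain ⟨c, hc⟩ := exists_sqrt (O.Q x / O.Q y)
    set x' := x + c • y with hx'
    have hBS : O.B ((O.toSys.S ^ (0 + 1)) x) y = 0 :=
      ho _ ((O.toSys.inv_famV hx.2.1).S_pow_mem hx.2.1 1 hx.mem hx.2.1) y hy
    have hQ : O.Q x' = 0 := by
      rw [hx', O.polar, O.Q_smul, map_smul, ho _ hx.mem y hy, smul_zero, add_zero, hc, div_mul_cancel₀ _ hQy,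
        CharTwo.add_self_eq_zero]
    have h1 : O.toSys.mu 0 x' = 1 := by
      rw [hx', O.toSys.mu_add, O.toSys.mu_smul, O.mu_zero_of_ker hNy, mul_zero, map_smul, hBS, smul_zero, add_zero,
        add_zero, hμ, tV, if_pos rfl]
    have hk : (O.toSys.N ^ (2 * 1)) x' = 0 := by
      rw [hx', map_add, map_smul, hx.2.1, show 2 * 1 = 1 + 1 by rfl, pow_succ, Module.End.mul_apply, hNy, map_zero,
        smul_zero, add_zero]
    have hcan := canV_one hk h1
    have hp : O.toSys.Piece (.V 1, false) (Submodule.span F (Set.range (O.toSys.famV (2 * 1) x'))) :=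
      ⟨⟨le_rfl, fun h => absurd h (by simp)⟩, x', hcan, rfl⟩
    refine ⟨_, hp, O.toSys.famV_le hinv (Submodule.add_mem _ (Submodule.mem_sup_left hx.mem)
      (Submodule.smul_mem _ c (Submodule.mem_sup_right hy))), O.toSys.famV_le (hp.inv.sup hD.inv) ?_, ?_⟩
    · refine Submodule.mem_sup.2 ⟨x', hcan.1.mem, c • y, D.smul_mem c hy, ?_⟩
      rw [hx', add_assoc, add_self_eq (F := F), add_zero]
    · have hB : O.B (O.toSys.N x') x' = 1 := h1
      have := O.gauss_plane hB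
      rw [← span_famV_two, hQ, mul_zero, chi_zero] at this
      exact this.trans (mul_one _)
  · obtain ⟨v, w, ⟨hW, hp, -, -⟩, rfl, -⟩ := O.normal_W1 hC
    have hNv : O.toSys.N v = 0 := by simpa using hW.2.1
    have hNw : O.toSys.N w = 0 := by simpa using hW.2.2.1
    have hB : O.B v w = 1 := by simpa using hp 0 one_pos
    have hv : v ∈ Submodule.span F (Set.range (O.toSys.famW 1 v w)) := Submodule.subset_span ⟨Sum.inl 0, rfl⟩
    have hw : w ∈ Submodule.span F (Set.range (O.toSys.famW 1 v w)) := Submodule.subset_span ⟨Sum.inr 0, rfl⟩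
    obtain ⟨c, hc⟩ := exists_sqrt (O.Q v / O.Q y)
    set v' := v + c • y with hv'
    have hQ : O.Q v' = 0 := by
      rw [hv', O.polar, O.Q_smul, map_smul, ho _ hv y hy, smul_zero, add_zero, hc, div_mul_cancel₀ _ hQy,
        CharTwo.add_self_eq_zero]
    have hB' : O.B v' w = 1 := by
      rw [hv', map_add, map_smul, LinearMap.add_apply, LinearMap.smul_apply, ho.symm y hy w hw, smul_zero, add_zero,
        hB]
    have hN' : O.toSys.N v' = 0 := by rw [hv', map_add, map_smul, hNv, hNy, smul_zero, add_zero]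
    have hcan := canW_one hN' hNw hB'
    have hp' : O.toSys.Piece (.W 1, false) (Submodule.span F (Set.range (O.toSys.famW 1 v' w))) :=
      ⟨⟨le_rfl, fun h => absurd h (by simp)⟩, v', w, hcan, rfl⟩
    refine ⟨_, hp', O.toSys.famW_le hinv (Submodule.add_mem _ (Submodule.mem_sup_left hv)
      (Submodule.smul_mem _ c (Submodule.mem_sup_right hy))) (Submodule.mem_sup_left hw),
      O.toSys.famW_le (hp'.inv.sup hD.inv) ?_ (Submodule.mem_sup_left (Submodule.subset_span ⟨Sum.inr 0, rfl⟩)), ?_⟩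
    · refine Submodule.mem_sup.2 ⟨v', Submodule.subset_span ⟨Sum.inl 0, rfl⟩, c • y, D.smul_mem c hy, ?_⟩
      rw [hv', add_assoc, add_self_eq (F := F), add_zero]
    · have := O.gauss_plane hB'
      rw [← span_famW_one O.toSys, hQ, zero_mul, chi_zero, mul_one] at this
      exact this

end OSys

theorem oEq_bottom {t : Tag} (ht : t.1.bottom = true) {C : Submodule F V} {C' : Submodule F V'}
    (h : O.toSys.Piece t C) (h' : O'.toSys.Piece t C') (hg : O.gauss C = O'.gauss C') : OEq O O' C C' := by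
  have hq : (Fintype.card F : ℤ) ≠ -(Fintype.card F : ℤ) := by
    have : 0 < Fintype.card F := Fintype.card_pos
    omega
  rcases bottom_tag ht h.wf with rfl | rfl
  · obtain ⟨x, hx, rfl, hQ⟩ := O.normal_V1 h
    obtain ⟨x', hx', rfl, hQ'⟩ := O'.normal_V1 h'
    refine oEq_pieceV hx hx' ?_
    rcases hQ with ⟨a, b⟩ | ⟨a, b⟩ <;> rcases hQ' with ⟨a', b'⟩ | ⟨a', b'⟩
    · rw [a, a']
    · exact absurd (b.symm.trans (hg.trans b')) hq
    · exact absurd (b.symm.trans (hg.trans b')).symm hq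
    · rw [a, a']
  · obtain ⟨x, y, hx, rfl, hQ⟩ := O.normal_W1 h
    obtain ⟨x', y', hx', rfl, hQ'⟩ := O'.normal_W1 h'
    rcases hQ with ⟨a, c, b⟩ | ⟨a, c, b⟩ <;> rcases hQ' with ⟨a', c', b'⟩ | ⟨a', c', b'⟩
    · exact oEq_pieceW hx hx' (by rw [a, a']) (by rw [c, c'])
    · exact absurd (b.symm.trans (hg.trans b')) hq
    · exact absurd (b.symm.trans (hg.trans b')).symm hq
    · exact oEq_pieceW hx hx' (by rw [a, a']) (by rw [c, c'])

theorem oEq_bottoms : ∀ {P : Multiset Tag}, (∀ t ∈ P, t.1.bottom = true) →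
    ∀ {W : Submodule F V} {W' : Submodule F V'}, O.toSys.Dec W P → O'.toSys.Dec W' P →
      O.gauss W = O'.gauss W' → OEq O O' W W' := by
  intro P
  induction P using Multiset.strongInductionOn with
  | _ P ih =>
    intro hb W W' hd hd' hg
    rcases Multiset.empty_or_exists_mem P with rfl | ⟨t, ht⟩
    · rw [hd.eq_bot rfl, hd'.eq_bot rfl]; exact OEq.bot
    obtain ⟨C, R, hC, hR, ho, rfl⟩ := hd.extract t ht
    obtain ⟨C', R', hC', hR', ho', rfl⟩ := hd'.extract t ht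
    rcases Multiset.empty_or_exists_mem (P.erase t) with h0 | ⟨s, hs⟩
    · obtain rfl := hR.eq_bot h0
      obtain rfl := hR'.eq_bot h0
      rw [sup_bot_eq, sup_bot_eq] at hg ⊢
      exact oEq_bottom (hb t ht) hC hC' hg
    · obtain ⟨D, E, hD, hE, hoD, rfl⟩ := hR.extract s hs
      obtain ⟨D', E', hD', hE', hoD', rfl⟩ := hR'.extract s hs
      obtain ⟨X, Z, hX, hZ, hoZ, hXZ, hgX⟩ := O.bottom_move (hb t ht) (hb s (Multiset.mem_of_mem_erase hs)) hC hD
        (ho.mono le_rfl le_sup_left)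
      obtain ⟨X', Z', hX', hZ', hoZ', hXZ', hgX'⟩ := O'.bottom_move (hb t ht) (hb s (Multiset.mem_of_mem_erase hs))
        hC' hD' (ho'.mono le_rfl le_sup_left)
      have oE : O.toSys.Orth (X ⊔ Z) E := hXZ ▸ (ho.mono le_rfl le_sup_right).sup_left hoD
      have oE' : O'.toSys.Orth (X' ⊔ Z') E' := hXZ' ▸ (ho'.mono le_rfl le_sup_right).sup_left hoD'
      have hW : C ⊔ (D ⊔ E) = X ⊔ (Z ⊔ E) := by rw [← sup_assoc, ← hXZ, sup_assoc]
      have hW' : C' ⊔ (D' ⊔ E') = X' ⊔ (Z' ⊔ E') := by rw [← sup_assoc, ← hXZ', sup_assoc]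
      have oX := hoZ.sup_right (oE.mono le_sup_left le_rfl)
      have oX' := hoZ'.sup_right (oE'.mono le_sup_left le_rfl)
      have hrest := Sys.Dec.cons hZ hE (oE.mono le_sup_right le_rfl)
      have hrest' := Sys.Dec.cons hZ' hE' (oE'.mono le_sup_right le_rfl)
      rw [hW, hW', O.gauss_sup hX.nd oX, O'.gauss_sup hX'.nd oX', hgX, hgX'] at hg
      rw [hW, hW']
      have hlt : s ::ₘ (P.erase t).erase s < P := by
        rw [Multiset.cons_erase hs]; exact Multiset.erase_lt.2 ht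
      exact (oEq_bottom (hb t ht) hX hX' (by rw [hgX, hgX'])).sup
        (ih _ hlt (fun r hr => hb r (Multiset.mem_of_le hlt.le hr)) hrest hrest'
          (mul_left_cancel₀ (by exact_mod_cast Fintype.card_pos.ne') hg))
        oX oX' hX.inv hX'.inv hrest.inv hrest'.inv

theorem oEq_others : ∀ {P : Multiset Tag}, (∀ t ∈ P, t.1.bottom = false) →
    ∀ {W : Submodule F V} {W' : Submodule F V'}, O.toSys.Dec W P → O'.toSys.Dec W' P → OEq O O' W W' := by
  intro P
  induction P using Multiset.strongInductionOn with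
  | _ P ih =>
    intro hb W W' hd hd'
    rcases Multiset.empty_or_exists_mem P with rfl | ⟨t, ht⟩
    · rw [hd.eq_bot rfl, hd'.eq_bot rfl]; exact OEq.bot
    obtain ⟨C, R, hC, hR, ho, rfl⟩ := hd.extract t ht
    obtain ⟨C', R', hC', hR', ho', rfl⟩ := hd'.extract t ht
    exact (oEq_not_bottom (hb t ht) hC hC').sup
      (ih _ (Multiset.erase_lt.2 ht) (fun r hr => hb r (Multiset.mem_of_mem_erase hr)) hR hR')
      ho ho' hC.inv hC'.inv hR.inv hR'.inv

theorem dec_split {T : Sys F V} : ∀ {A B : Multiset Tag} {W : Submodule F V}, T.Dec W (A + B) →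
    ∃ WA WB, T.Dec WA A ∧ T.Dec WB B ∧ T.Orth WA WB ∧ WA ⊔ WB = W := by
  intro A
  induction A using Multiset.induction with
  | empty =>
    intro B W h
    exact ⟨⊥, W, Sys.Dec.nil, by rwa [zero_add] at h,
      fun x hx y _ => by rw [(Submodule.mem_bot F).1 hx, map_zero, LinearMap.zero_apply], bot_sup_eq W⟩
  | cons t A ih =>
    intro B W h
    rw [Multiset.cons_add] at h
    obtain ⟨C, R, hC, hR, ho, rfl⟩ := h.extract t (Multiset.mem_cons_self _ _)
    rw [Multiset.erase_cons_head] at hR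
    obtain ⟨WA, WB, hA, hB, hAB, rfl⟩ := ih hR
    exact ⟨C ⊔ WA, WB, Sys.Dec.cons hC hA (ho.mono le_rfl le_sup_left), hB,
      (ho.mono le_rfl le_sup_right).sup_left hAB, sup_assoc _ _ _⟩

/-- The parts without fixed vectors agree, quadratic form included. -/
theorem oEq_zPart {d : ℕ} (hd : Module.finrank F O.toSys.zPart = 2 * d)
    (hd' : Module.finrank F O'.toSys.zPart = 2 * d)
    (h : (O.toSys.res _ O.toSys.nd_parts.2 O.toSys.inv_zPart).half d =
      (O'.toSys.res _ O'.toSys.nd_parts.2 O'.toSys.inv_zPart).half d) :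
    OEq O O' O.toSys.zPart O'.toSys.zPart := by
  set R := O.toSys.res _ O.toSys.nd_parts.2 O.toSys.inv_zPart with hR
  set R' := O'.toSys.res _ O'.toSys.nd_parts.2 O'.toSys.inv_zPart with hR'
  obtain ⟨φ, hφB, hφU⟩ := isometry_of_half O.toSys.isUnit_zPart O'.toSys.isUnit_zPart hd hd' h
  have hφN : ∀ x, φ (R.N x) = R'.N (φ x) := fun x => by
    simp only [Sys.N, LinearMap.add_apply, Module.End.one_apply, map_add, hφU, hR, hR']
  have hsurj : Function.Surjective R.N := by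
    obtain ⟨u, hu⟩ := O.toSys.isUnit_zPart
    intro x
    exact ⟨(↑u⁻¹ : Module.End F O.toSys.zPart) x, by rw [hR, ← hu, ← Module.End.mul_apply, u.mul_inv]; rfl⟩
  have hQ : ∀ x, O'.Q (φ x).1 = O.Q x.1 := fun x => by
    obtain ⟨z, rfl⟩ := hsurj x
    rw [hφN]
    show O'.Q (O'.toSys.N (φ z).1) = O.Q (O.toSys.N z.1)
    rw [O'.Q_N, O.Q_N]
    show O'.B (O'.toSys.N (φ z).1) (φ z).1 = O.B (O.toSys.N z.1) z.1
    have h1 := hφB (R.N z) z
    rw [hφN] at h1
    exact h1
  let b := Module.finBasis F O.toSys.zPart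
  refine ⟨Fin (Module.finrank F O.toSys.zPart), fun i => (b i : V), fun i => (φ (b i) : V'), span_coe _ _ b.span_eq,
    span_coe _ _ ?_, fun i j => (hφB (b i) (b j)).symm, fun i j => ?_, fun i => (hQ (b i)).symm⟩
  · rw [show (fun i => φ (b i)) = ⇑φ.toLinearMap ∘ ⇑b from rfl, Set.range_comp, Submodule.span_image, b.span_eq,
      Submodule.map_top, LinearEquiv.range]
  · have h1 := hφB (R.N (b i)) (b j)
    rw [hφN] at h1
    exact h1.symm

/-- Equal data and equal Gauss sums give an isometry commuting with the given ones. -/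
theorem oEquiv_of_data {L : Multiset Tag} {d : ℕ} (hL : O.toSys.Dec O.toSys.uPart L)
    (hL' : O'.toSys.Dec O'.toSys.uPart L) (hd : Module.finrank F O.toSys.zPart = 2 * d)
    (hd' : Module.finrank F O'.toSys.zPart = 2 * d)
    (h : (O.toSys.res _ O.toSys.nd_parts.2 O.toSys.inv_zPart).half d =
      (O'.toSys.res _ O'.toSys.nd_parts.2 O'.toSys.inv_zPart).half d)
    (hg : L = 0 ∨ O.gauss ⊤ = O'.gauss ⊤) :
    ∃ φ : V ≃ₗ[F] V', (∀ x, O'.Q (φ x) = O.Q x) ∧ ∀ x, φ (O.g x) = O'.g (φ x) := by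
  classical
  have hz := oEq_zPart hd hd' h
  set A := L.filter (fun t => t.1.bottom = true) with hA
  set B := L.filter (fun t => ¬ t.1.bottom = true) with hB
  have hsplit : A + B = L := Multiset.filter_add_not _ L
  rw [← hsplit] at hL hL'
  obtain ⟨WA, WB, hWA, hWB, hoAB, hsup⟩ := dec_split hL
  obtain ⟨WA', WB', hWA', hWB', hoAB', hsup'⟩ := dec_split hL'
  have hb := oEq_others (fun t ht => by simpa using (Multiset.mem_filter.1 ht).2) hWB hWB'
  have ha : OEq O O' WA WA' := by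
    refine oEq_bottoms (fun t ht => (Multiset.mem_filter.1 ht).2) hWA hWA' ?_
    rcases hg with h0 | hg
    · have hA0 : A = 0 := by rw [hA, h0, Multiset.filter_zero]
      rw [hWA.eq_bot hA0, hWA'.eq_bot hA0, O.gauss_bot, O'.gauss_bot]
    · rw [← O.toSys.parts_sup, ← O'.toSys.parts_sup, O.gauss_sup O.toSys.nd_parts.1 O.toSys.orth_parts,
        O'.gauss_sup O'.toSys.nd_parts.1 O'.toSys.orth_parts, ← hsup, ← hsup', O.gauss_sup hWA.nd hoAB,
        O'.gauss_sup hWA'.nd hoAB', hb.gauss_eq hWB.nd hWB'.nd hWB.inv hWB'.inv,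
        hz.gauss_eq O.toSys.nd_parts.2 O'.toSys.nd_parts.2 O.toSys.inv_zPart O'.toSys.inv_zPart] at hg
      exact mul_right_cancel₀ (O'.gauss_ne_zero hWB'.nd)
        (mul_right_cancel₀ (O'.gauss_ne_zero O'.toSys.nd_parts.2) hg)
  have hu := ha.sup hb hoAB hoAB' hWA.inv hWA'.inv hWB.inv hWB'.inv
  rw [hsup, hsup'] at hu
  have hall := hu.sup hz O.toSys.orth_parts O'.toSys.orth_parts O.toSys.inv_uPart O'.toSys.inv_uPart
    O.toSys.inv_zPart O'.toSys.inv_zPart
  rw [O.toSys.parts_sup, O'.toSys.parts_sup] at hall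
  obtain ⟨φ, -, hQ, hN⟩ := hall.exists_equiv (fun x _ hx => O.nondeg x fun y => hx y trivial)
    (fun x _ hx => O'.nondeg x fun y => hx y trivial) (fun _ _ => trivial) (fun _ _ => trivial)
  refine ⟨Submodule.topEquiv.symm.trans (φ.trans Submodule.topEquiv), fun x => hQ ⟨x, trivial⟩, fun x => ?_⟩
  show (φ ⟨O.g x, trivial⟩).1 = O'.g (φ ⟨x, trivial⟩).1
  have e : (⟨O.g x, trivial⟩ : (⊤ : Submodule F V)) = ⟨O.toSys.N x, trivial⟩ + ⟨x, trivial⟩ := Subtype.ext (by
    show O.g x = O.g x + x + x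
    rw [add_assoc, add_self_eq (F := F), add_zero])
  rw [e, map_add, Submodule.coe_add, hN ⟨x, trivial⟩]
  show O'.g (φ ⟨x, trivial⟩).1 + (φ ⟨x, trivial⟩).1 + (φ ⟨x, trivial⟩).1 = _
  rw [add_assoc, add_self_eq (F := F), add_zero]

end Cfsg.Agent.Small.SpEven
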