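import Mathlib
import Cfsg.Prelude.Def_Classical
import Cfsg.Agent.Lib.Small.ClassNumberOTwo.Unique
import Cfsg.Agent.Lib.Small.ClassNumberOTwo.Model

/-!
The class numbers of the orthogonal groups in characteristic two.
-/

set_option autoImplicit false
set_option linter.unusedSectionVars false
set_option linter.style.haveILetI false

namespace Cfsg.Agent.Small.SpEven

open Cfsg.Agent.Small.ClassNumber

universe u v w

variable {F : Type u} [Field F] [Fintype F] [CharP F 2]

/-- a non-degenerate quadratic space -/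
structure QSp (F : Type u) [Field F] (V : Type v) [AddCommGroup V] [Module F V] where
  /-- the polar form -/
  B : V →ₗ[F] V →ₗ[F] F
  /-- the quadratic form -/
  Q : V → F
  alt : ∀ x, B x x = 0
  nondeg : ∀ x, (∀ y, B x y = 0) → x = 0
  polar : ∀ x y, Q (x + y) = Q x + Q y + B x y
  Q_smul : ∀ (c : F) x, Q (c • x) = c ^ 2 * Q x

namespace QSp

variable {V : Type v} [AddCommGroup V] [Module F V]

/-- an isometry of a quadratic space as a system -/
def osys (S : QSp F V) (g : V ≃ₗ[F] V) (hg : ∀ x, S.Q (g x) = S.Q x) : OSys F V where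
  B := S.B
  g := g
  alt := S.alt
  nondeg := S.nondeg
  inv := fun x y => by
    have h := S.polar (g x) (g y)
    rw [← map_add, hg, hg, hg, S.polar] at h
    exact (add_left_cancel h).symm
  Q := S.Q
  polar := S.polar
  Q_smul := S.Q_smul
  Q_inv := hg

/-- the system of the identity -/
def idSys (S : QSp F V) : OSys F V := S.osys (LinearEquiv.refl F V) fun _ => rfl

end QSp

/-- the quadratic space of a system -/
def OSys.space {V : Type v} [AddCommGroup V] [Module F V] (O : OSys F V) : QSp F V where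
  B := O.B
  Q := O.Q
  alt := O.alt
  nondeg := O.nondeg
  polar := O.polar
  Q_smul := O.Q_smul

theorem gauss_congr {V : Type v} [AddCommGroup V] [Module F V] (O O' : OSys F V) (h : ∀ x, O.Q x = O'.Q x)
    (W : Submodule F V) : O.gauss W = O'.gauss W := by
  simp only [OSys.gauss, h]

theorem gauss_top {V : Type v} [AddCommGroup V] [Module F V] [Fintype V] (O : OSys F V) :
    O.gauss ⊤ = ∑ x : V, chi (O.Q x) := by
  classical
  rw [O.gauss_eq]
  exact Fintype.sum_bijective (fun x : (⊤ : Submodule F V) => x.1)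
    ⟨fun a b h => Subtype.ext h, fun x => ⟨⟨x, trivial⟩, rfl⟩⟩ _ _ fun _ => rfl

theorem gauss_top_sign {V : Type v} [AddCommGroup V] [Module F V] [FiniteDimensional F V] (O : OSys F V) {n : ℕ}
    (hV : Module.finrank F V = 2 * n) :
    O.gauss ⊤ = (Fintype.card F : ℤ) ^ n ∨ O.gauss ⊤ = -((Fintype.card F : ℤ) ^ n) := by
  refine mul_self_eq_mul_self_iff.1 ?_
  have hnd : O.toSys.ND (⊤ : Submodule F V) := fun x _ hx => O.nondeg x fun y => hx y Submodule.mem_top
  rw [O.gauss_sq hnd, Module.natCard_eq_pow_finrank (K := F), finrank_top, hV, two_mul, pow_add,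
    Nat.card_eq_fintype_card]
  push_cast
  ring

theorem zPart_zero {V : Type v} [AddCommGroup V] [Module F V] [FiniteDimensional F V] (S : QSp F V) :
    Module.finrank F S.idSys.toSys.zPart = 0 ∧
      ∀ {n : ℕ}, Module.finrank F V = 2 * n →
        S.idSys.toSys.Dec S.idSys.toSys.uPart (Multiset.replicate n (Kind.W 1, false)) := by
  classical
  set T := S.idSys.toSys with hT
  have hN : ∀ x : V, T.N x = 0 := fun x => add_self_eq (F := F) x
  have hpow : ∀ a, 1 ≤ a → ∀ x : V, (T.N ^ a) x = 0 := fun a ha x =>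
    T.pow_zero_of_le (k := 1) (by rw [pow_one]; exact hN x) ha
  have hz : T.zPart = ⊥ := by
    refine (Submodule.eq_bot_iff _).2 fun x hx => ?_
    obtain ⟨y, rfl⟩ := hx
    rcases Nat.eq_zero_or_pos (Module.finrank F V) with h0 | h0
    · haveI := Module.finrank_zero_iff.1 h0
      exact Subsingleton.elim _ _
    · exact hpow _ h0 y
  refine ⟨by rw [hz, finrank_bot], fun {n} hn => ?_⟩
  obtain ⟨L, hL⟩ := T.exists_dec T.uPart T.nd_parts.1 T.inv_uPart fun x hx => ⟨_, hx⟩
  have key : ∀ {W : Submodule F V} {M : Multiset Tag}, T.Dec W M → ∀ t ∈ M, t = (Kind.W 1, false) := by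
    intro W M hM t ht
    obtain ⟨C, R, hC, -, -, -⟩ := hM.extract t ht
    obtain ⟨i | k, b⟩ := t
    · obtain ⟨-, x, ⟨hx, -⟩, -⟩ := hC
      exact absurd (T.mu_hi (k := 1) (by rw [pow_one]; exact hN x) (by omega)) hx.2.2
    · obtain ⟨hwf, x, y, ⟨hW, -, -, -⟩, -⟩ := hC
      obtain rfl : k = 1 := by
        by_contra hk
        exact hW.2.2.2.1 (by rw [hpow _ (by have := hW.1; omega), map_zero, LinearMap.zero_apply])
      cases b with
      | false => rfl
      | true => obtain ⟨q, hq⟩ := hwf.2 rfl; omega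
  have hrep := Multiset.eq_replicate_card.2 (key hL)
  have hw := hL.finrank
  have hsum : Module.finrank F T.uPart = 2 * n := by
    have h := Submodule.finrank_sup_add_finrank_inf_eq T.uPart T.zPart
    rw [T.parts_sup, T.parts_inf, finrank_top, finrank_bot, hz, finrank_bot, hn] at h
    omega
  rw [hsum, hrep, weight_replicate] at hw
  rw [show n = L.card by simp only [Kind.wt] at hw; omega, ← hrep]
  exact hL

/-- Quadratic spaces with equal Gauss sums are isometric. -/
theorem exists_isometry_space {V : Type v} [AddCommGroup V] [Module F V] [FiniteDimensional F V] {V' : Type w}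
    [AddCommGroup V'] [Module F V'] [FiniteDimensional F V'] (S : QSp F V) (S' : QSp F V') {n : ℕ}
    (hV : Module.finrank F V = 2 * n) (hV' : Module.finrank F V' = 2 * n)
    (hg : S.idSys.gauss ⊤ = S'.idSys.gauss ⊤) : ∃ φ : V ≃ₗ[F] V', ∀ x, S'.Q (φ x) = S.Q x := by
  obtain ⟨φ, hQ, -⟩ := oEquiv_of_data (O := S.idSys) (O' := S'.idSys) (d := 0) ((zPart_zero S).2 hV)
    ((zPart_zero S').2 hV') (zPart_zero S).1 (zPart_zero S').1 (funext fun k => k.elim0) (Or.inr hg)
  exact ⟨φ, hQ⟩

/-- the product of two systems -/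
def OSys.prod {V : Type v} [AddCommGroup V] [Module F V] {V' : Type w} [AddCommGroup V'] [Module F V']
    (O : OSys F V) (O' : OSys F V') : OSys F (V × V') where
  B := (O.B.compl₁₂ (LinearMap.fst F V V') (LinearMap.fst F V V')) +
    (O'.B.compl₁₂ (LinearMap.snd F V V') (LinearMap.snd F V V'))
  g := O.g.prodCongr O'.g
  alt := fun x => by simp [O.alt, O'.alt]
  nondeg := fun x hx => Prod.ext (O.nondeg x.1 fun y => by simpa using hx (y, 0))
    (O'.nondeg x.2 fun y => by simpa using hx (0, y))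
  inv := fun x y => by simp [O.inv, O'.inv]
  Q := fun x => O.Q x.1 + O'.Q x.2
  polar := fun x y => by simp [O.polar, O'.polar]; ring
  Q_smul := fun c x => by simp [O.Q_smul, O'.Q_smul]; ring
  Q_inv := fun x => by
    show O.Q (O.g x.1) + O'.Q (O'.g x.2) = _
    rw [O.Q_inv, O'.Q_inv]

theorem gauss_prod {V : Type v} [AddCommGroup V] [Module F V] [FiniteDimensional F V] {V' : Type w}
    [AddCommGroup V'] [Module F V'] [FiniteDimensional F V'] (O : OSys F V) (O' : OSys F V') :
    (O.prod O').gauss ⊤ = O.gauss ⊤ * O'.gauss ⊤ := by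
  classical
  haveI : Finite V := Module.finite_of_finite F
  haveI : Finite V' := Module.finite_of_finite F
  haveI := Fintype.ofFinite V
  haveI := Fintype.ofFinite V'
  rw [gauss_top, gauss_top, gauss_top, Finset.sum_mul_sum, Fintype.sum_prod_type]
  refine Finset.sum_congr rfl fun x _ => Finset.sum_congr rfl fun y _ => ?_
  show chi (O.Q x + O'.Q y) = _
  rw [chi_add]

/-- a plane -/
def planeSp (β : F) : QSp F (Fin 2 → F) where
  B := LinearMap.mk₂ F (fun x y => x 0 * y 1 + x 1 * y 0) (fun x x' y => by simp; ring) (fun c x y => by simp; ring)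
    (fun x y y' => by simp; ring) (fun c x y => by simp; ring)
  Q := fun x => x 0 ^ 2 + x 0 * x 1 + β * x 1 ^ 2
  alt := fun x => by
    show x 0 * x 1 + x 1 * x 0 = 0
    rw [mul_comm, CharTwo.add_self_eq_zero]
  nondeg := fun x hx => by
    funext i
    fin_cases i
    · simpa using hx ![0, 1]
    · simpa using hx ![1, 0]
  polar := fun x y => by
    show (x 0 + y 0) ^ 2 + (x 0 + y 0) * (x 1 + y 1) + β * (x 1 + y 1) ^ 2 = _
    simp only [CharTwo.add_sq, LinearMap.mk₂_apply]
    ring
  Q_smul := fun c x => by simp; ring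

theorem gauss_planeSp (β : F) : (planeSp β).idSys.gauss ⊤ = (Fintype.card F : ℤ) * chi β := by
  classical
  have h := sum_plane 1 β
  rw [one_mul] at h
  rw [gauss_top, ← h, ← Fintype.sum_prod_type']
  exact Fintype.sum_bijective (fun x : Fin 2 → F => (x 0, x 1))
    ⟨fun a b hab => funext fun i => by fin_cases i <;> simp_all, fun p => ⟨![p.1, p.2], by simp⟩⟩ _ _
    fun x => by show chi (x 0 ^ 2 + x 0 * x 1 + β * x 1 ^ 2) = _; rw [one_mul]

section target

variable {ι : Type} [Fintype ι] [DecidableEq ι] (S : QSp F (ι → F))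

/-- an element of the isometry group as a system -/
noncomputable def sysO (A : ↥(Cfsg.isometryGroup F S.Q)) : OSys F (ι → F) :=
  S.osys (LinearMap.GeneralLinearGroup.generalLinearEquiv F (ι → F)
    (Matrix.GeneralLinearGroup.toLin A.1)) fun x => by
    have h := A.2 x x
    exact h

theorem sysO_g (A : ↥(Cfsg.isometryGroup F S.Q)) (x : ι → F) :
    (sysO S A).g x = (A.1 : Matrix ι ι F).mulVec x := rfl

/-- the element of an isometry -/
noncomputable def elemOf (φ : (ι → F) ≃ₗ[F] (ι → F)) (h : ∀ x, S.Q (φ x) = S.Q x) :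
    ↥(Cfsg.isometryGroup F S.Q) :=
  ⟨Matrix.GeneralLinearGroup.mk'' (LinearMap.toMatrix' φ.toLinearMap)
      ((LinearMap.det_toMatrix' φ.toLinearMap).symm ▸ φ.isUnit_det'), fun u v => by
    show S.Q ((LinearMap.toMatrix' φ.toLinearMap).mulVec u) = S.Q u
    rw [LinearMap.toMatrix'_mulVec]
    exact h u⟩

theorem elemOf_val (φ : (ι → F) ≃ₗ[F] (ι → F)) (h : ∀ x, S.Q (φ x) = S.Q x) (x : ι → F) :
    (((elemOf S φ h).1 : GL ι F) : Matrix ι ι F).mulVec x = φ x :=
  LinearMap.toMatrix'_mulVec _ _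

theorem isConj_of_isometry (A A' : ↥(Cfsg.isometryGroup F S.Q)) (φ : (ι → F) ≃ₗ[F] (ι → F))
    (hQ : ∀ x, S.Q (φ x) = S.Q x) (hg : ∀ x, φ ((sysO S A).g x) = (sysO S A').g (φ x)) : IsConj A A' := by
  refine isConj_iff.2 ⟨elemOf S φ hQ, mul_inv_eq_iff_eq_mul.2 (Subtype.ext (Units.ext (Matrix.ext_iff_mulVec.2
    fun x => ?_)))⟩
  show (((elemOf S φ hQ).1 : GL ι F).1 * (A.1 : GL ι F).1).mulVec x = ((A'.1 : GL ι F).1 * ((elemOf S φ hQ).1 : GL ι F).1).mulVec x
  rw [← Matrix.mulVec_mulVec, ← Matrix.mulVec_mulVec, elemOf_val, elemOf_val]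
  exact hg x

variable {n : ℕ}

/-- A system with the same Gauss sum gives an element with the same characteristic polynomial. -/
theorem exists_elem (hι : Fintype.card ι = 2 * n) {V : Type v} [AddCommGroup V] [Module F V] [FiniteDimensional F V]
    (hV : Module.finrank F V = 2 * n) (O : OSys F V) (hg : O.gauss ⊤ = S.idSys.gauss ⊤) :
    ∃ A : ↥(Cfsg.isometryGroup F S.Q), LinearMap.charpoly (sysO S A).toSys.U = LinearMap.charpoly O.toSys.U := by
  obtain ⟨ψ, hψ⟩ := exists_isometry_space O.space S hV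
    (by rw [Module.finrank_fintype_fun_eq_card, hι]) ((gauss_congr _ O (fun _ => rfl) ⊤).trans hg)
  have hQ : ∀ x, S.Q (((ψ.symm.trans O.g).trans ψ) x) = S.Q x := fun x => by
    show S.Q (ψ (O.g (ψ.symm x))) = S.Q x
    rw [hψ]
    show O.Q (O.g (ψ.symm x)) = _
    rw [O.Q_inv]
    exact (hψ (ψ.symm x)).symm.trans (by rw [ψ.apply_symm_apply])
  refine ⟨elemOf S _ hQ, ?_⟩
  have e : (sysO S (elemOf S _ hQ)).toSys.U = ψ.conj O.toSys.U := LinearMap.ext fun x => elemOf_val S _ hQ x
  rw [e, LinearEquiv.charpoly_conj]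

theorem charpoly_conj {A A' : ↥(Cfsg.isometryGroup F S.Q)} (h : IsConj A A') :
    LinearMap.charpoly (sysO S A).toSys.U = LinearMap.charpoly (sysO S A').toSys.U := by
  obtain ⟨c, rfl⟩ := isConj_iff.1 h
  have e : (sysO S (c * A * c⁻¹)).toSys.U = ((sysO S c).g).conj (sysO S A).toSys.U := by
    refine LinearMap.ext fun x => ?_
    obtain ⟨z, rfl⟩ := (sysO S c).g.surjective x
    show (sysO S (c * A * c⁻¹)).g ((sysO S c).g z) = (sysO S c).g ((sysO S A).g ((sysO S c).g.symm ((sysO S c).g z)))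
    rw [(sysO S c).g.symm_apply_apply, sysO_g, sysO_g, sysO_g, sysO_g]
    show ((c * A * c⁻¹).1 : GL ι F).1.mulVec (Matrix.mulVec (c.1 : GL ι F).1 z) = _
    rw [Matrix.mulVec_mulVec, Matrix.mulVec_mulVec, ← Units.val_mul, ← Units.val_mul, ← Subgroup.coe_mul,
      ← Subgroup.coe_mul, inv_mul_cancel_right]
  rw [e, LinearEquiv.charpoly_conj]

/-- the coefficient vectors of the models -/
def HSet (F : Type u) [Field F] (m : ℕ) : Type u := {h : Fin (m + 1) → F // h (Fin.last m) ≠ 0}

noncomputable instance (m : ℕ) : Fintype (HSet F m) :=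
  haveI : Finite (HSet F m) := Subtype.finite
  Fintype.ofFinite _

theorem card_hSet (m : ℕ) : Nat.card (HSet F m) = (Fintype.card F - 1) * Fintype.card F ^ m := by
  classical
  have e : HSet F m ≃ {c : F // c ≠ 0} × (Fin m → F) :=
    { toFun := fun h => (⟨h.1 (Fin.last m), h.2⟩, fun i => h.1 i.castSucc)
      invFun := fun p => ⟨Fin.snoc p.2 p.1.1, by simp [p.1.2]⟩
      left_inv := fun h => Subtype.ext (Fin.snoc_init_self h.1)
      right_inv := fun p => by simp }
  rw [Nat.card_congr e, Nat.card_prod, Nat.card_fun, Nat.card_eq_fintype_card, Nat.card_eq_fintype_card,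
    Nat.card_eq_fintype_card, Fintype.card_fin, Fintype.card_subtype_compl, Fintype.card_subtype_eq]

theorem coefOf_last {m : ℕ} (h : HSet F m) : coefOf h.1 (m + 1) ≠ 0 := by
  have := coefOf_succ h.1 (Fin.last m)
  rw [Fin.val_last] at this
  rw [this]; exact h.2

theorem two_card_sign {m : ℕ} (hm : 1 ≤ m) (s : ℤ) (hs : s = 1 ∨ s = -1) :
    2 * Nat.card {h : HSet F m // chi (sgnArg (coefOf h.1) (m + 1)) = s} = Nat.card (HSet F m) := by
  classical
  have hlt : m - 1 < m + 1 := by omega
  let fl : HSet F m → HSet F m := fun h =>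
    ⟨Function.update h.1 ⟨m - 1, hlt⟩ (h.1 ⟨m - 1, hlt⟩ + delta F * h.1 (Fin.last m)), by
      rw [Function.update_of_ne (fun he => by have := congrArg Fin.val he; simp at this; omega)]
      exact h.2⟩
  have hlast : ∀ h, (fl h).1 (Fin.last m) = h.1 (Fin.last m) := fun h =>
    Function.update_of_ne (fun he => by have := congrArg Fin.val he; simp at this; omega) _ _
  have hinv : Function.Involutive fl := fun h => Subtype.ext (funext fun i => by
    by_cases hi : i = ⟨m - 1, hlt⟩
    · subst hi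
      show Function.update (fl h).1 _ ((fl h).1 ⟨m - 1, hlt⟩ + delta F * (fl h).1 (Fin.last m)) _ = _
      rw [Function.update_self, hlast]
      show Function.update h.1 _ _ _ + _ = _
      rw [Function.update_self, add_assoc, CharTwo.add_self_eq_zero, add_zero]
    · show Function.update (fl h).1 _ _ i = _
      rw [Function.update_of_ne hi]
      show Function.update h.1 _ _ i = _
      rw [Function.update_of_ne hi])
  have hflip : ∀ h : HSet F m, chi (sgnArg (coefOf (fl h).1) (m + 1)) = -chi (sgnArg (coefOf h.1) (m + 1)) := by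
    intro h
    have hge : coefOf (fl h).1 (m + 1) = coefOf h.1 (m + 1) := by
      have a := coefOf_succ (fl h).1 (Fin.last m)
      have b := coefOf_succ h.1 (Fin.last m)
      rw [Fin.val_last] at a b
      rw [a, b, hlast]
    have hsmall : ∀ l, l < m → coefOf (fl h).1 l = coefOf h.1 l := by
      intro l hl
      rcases Nat.eq_zero_or_pos l with rfl | hl0
      · rw [coefOf_zero, coefOf_zero]
      · have a := coefOf_succ (fl h).1 ⟨l - 1, by omega⟩
        have b := coefOf_succ h.1 ⟨l - 1, by omega⟩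
        simp only [Nat.sub_add_cancel hl0] at a b
        rw [a, b]
        exact Function.update_of_ne (fun he => by have := congrArg Fin.val he; simp at this; omega) _ _
    have hm' : coefOf (fl h).1 m = coefOf h.1 m + delta F * coefOf h.1 (m + 1) := by
      have a := coefOf_succ (fl h).1 ⟨m - 1, hlt⟩
      have b := coefOf_succ h.1 ⟨m - 1, hlt⟩
      have c := coefOf_succ h.1 (Fin.last m)
      simp only [Nat.sub_add_cancel hm, Fin.val_last] at a b c
      rw [a, b, c]
      exact Function.update_self _ _ _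
    have hnum : ∑ j ∈ Finset.range (m + 1), psum (coefOf (fl h).1) (m + 1 - j) =
        (∑ j ∈ Finset.range (m + 1), psum (coefOf h.1) (m + 1 - j)) + delta F * coefOf h.1 (m + 1) := by
      rw [Finset.sum_range_succ', Finset.sum_range_succ']
      have h1 : ∀ j ∈ Finset.range m, psum (coefOf (fl h).1) (m + 1 - (j + 1)) = psum (coefOf h.1) (m + 1 - (j + 1)) :=
        fun j _ => Finset.sum_congr rfl fun l hl => hsmall l (by have := Finset.mem_range.1 hl; omega)
      have h2 : psum (coefOf (fl h).1) (m + 1 - 0) = psum (coefOf h.1) (m + 1 - 0) + delta F * coefOf h.1 (m + 1) := by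
        rw [Nat.sub_zero, psum, psum, Finset.sum_range_succ, Finset.sum_range_succ, hm',
          Finset.sum_congr rfl fun l hl => hsmall l (Finset.mem_range.1 hl), add_assoc]
      rw [Finset.sum_congr rfl h1, h2, add_assoc]
    rw [sgnArg, sgnArg, hge, hnum, add_div, mul_div_assoc, div_self (coefOf_last h), mul_one, chi_add, chi_delta,
      mul_neg, mul_one]
  have hpm : ∀ t : F, chi t = 1 ∨ chi t = -1 := fun t => by
    unfold chi; split_ifs <;> simp
  have e : {h : HSet F m // chi (sgnArg (coefOf h.1) (m + 1)) = s} ≃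
      {h : HSet F m // ¬ chi (sgnArg (coefOf h.1) (m + 1)) = s} :=
    { toFun := fun h => ⟨fl h.1, by rw [hflip, h.2]; rcases hs with rfl | rfl <;> decide⟩
      invFun := fun h => ⟨fl h.1, by
        have h2 := h.2
        rw [hflip]
        rcases hpm (sgnArg (coefOf h.1.1) (m + 1)) with hp | hp <;> rw [hp] at h2 ⊢ <;>
          rcases hs with rfl | rfl <;> simp at h2 ⊢⟩
      left_inv := fun h => Subtype.ext (hinv h.1)
      right_inv := fun h => Subtype.ext (hinv h.1) }
  rw [two_mul]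
  conv_lhs => arg 2; rw [Nat.card_congr e]
  rw [← Nat.card_sum, Nat.card_congr (Equiv.sumCompl _)]

/-- The upper bound. -/
theorem card_upper (hn : 2 ≤ n) (hι : Fintype.card ι = 2 * n) :
    Nat.card (ConjClasses ↥(Cfsg.isometryGroup F S.Q)) ≤ 15 * Fintype.card F ^ n := by
  classical
  obtain ⟨m, rfl⟩ : ∃ m, n = m + 1 := ⟨n - 1, by omega⟩
  let G := ↥(Cfsg.isometryGroup F S.Q)
  have hdimι : Module.finrank F (ι → F) = 2 * (m + 1) := by rw [Module.finrank_fintype_fun_eq_card, hι]
  obtain ⟨s, hs, hs0⟩ : ∃ s : ℤ, (s = 1 ∨ s = -1) ∧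
      (Fintype.card F : ℤ) ^ (m + 1) * s ≠ S.idSys.gauss ⊤ := by
    have hq : (0 : ℤ) < (Fintype.card F : ℤ) ^ (m + 1) := pow_pos (by exact_mod_cast Fintype.card_pos) _
    rcases gauss_top_sign S.idSys hdimι with h | h
    · exact ⟨-1, Or.inr rfl, by rw [h]; omega⟩
    · exact ⟨1, Or.inl rfl, by rw [h]; omega⟩
  let Bad := {h : HSet F m // chi (sgnArg (coefOf h.1) (m + 1)) = s}
  choose M hMchar hMN hMg using fun h : Bad => exists_model (e := m + 1) (by omega) h.1.1 (coefOf_last h.1)
  let rep : ConjClasses G → G := fun C => (ConjClasses.exists_rep C).choose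
  have hrep : ∀ C, ConjClasses.mk (rep C) = C := fun C => (ConjClasses.exists_rep C).choose_spec
  obtain ⟨Sf, hS, hw⟩ := exists_forms (m + 1)
  set S' := Sf.filter fun L => weight L ≤ m + 1 with hS'
  let Data := Σ L : ↥S', SeqT F (2 * (m + 1 - weight L.1)) (m + 1 - weight L.1)
  let IsData : ∀ {V : Type u} [AddCommGroup V] [Module F V] [FiniteDimensional F V], OSys F V → Data → Prop :=
    fun {V} _ _ _ O d => O.toSys.Dec O.toSys.uPart d.1.1 ∧
      Module.finrank F O.toSys.zPart = 2 * (m + 1 - weight d.1.1) ∧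
      (O.toSys.res _ O.toSys.nd_parts.2 O.toSys.inv_zPart).half (m + 1 - weight d.1.1) = d.2.1
  have hdata : ∀ {V : Type u} [AddCommGroup V] [Module F V] [FiniteDimensional F V] (O : OSys F V),
      Module.finrank F V = 2 * (m + 1) → ∃ d : Data, IsData O d := by
    intro V _ _ _ O hV
    obtain ⟨L, hL, hN, hwt, hdim⟩ := O.toSys.exists_data hV
    exact ⟨⟨⟨L, Finset.mem_filter.2 ⟨hS _ hN hL.wf hwt, hwt⟩⟩, ⟨_,
      (O.toSys.res _ O.toSys.nd_parts.2 O.toSys.inv_zPart).half_mem O.toSys.isUnit_zPart hdim⟩⟩, hL, hdim, rfl⟩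
  choose f1 hf1 using fun C => hdata (sysO S (rep C)) hdimι
  choose f2 hf2 using fun h : Bad => hdata (M h) (by rw [Module.finrank_fintype_fun_eq_card, Fintype.card_fin])
  have hzero : ∀ (h : Bad), (f2 h).1.1 = 0 := by
    intro h
    obtain ⟨hL, -, -⟩ := hf2 h
    have hbot : (M h).toSys.uPart = ⊥ := by
      rw [Sys.uPart, LinearMap.ker_eq_bot']
      intro x hx
      have hu : IsUnit ((M h).toSys.N ^ Module.finrank F (Fin (2 * (m + 1)) → F)) := (hMN h).pow _
      exact (LinearMap.ker_eq_bot'.1 ((LinearMap.isUnit_iff_ker_eq_bot _).1 hu)) x hx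
    have h2 := hL.finrank
    rw [hbot, finrank_bot] at h2
    refine Multiset.eq_zero_of_forall_notMem fun t ht => ?_
    have h3 : t.1.wt ≤ weight (f2 h).1.1 := Multiset.le_sum_of_mem (Multiset.mem_map_of_mem (fun t : Tag => t.1.wt) ht)
    have h4 := hL.wf t ht
    obtain ⟨i | i, b⟩ := t <;> simp only [Kind.wt] at h3 <;> have := h4.1 <;> omega
  have hinj : Function.Injective (Sum.elim f1 f2) := by
    rintro (C | h) (C' | h') e <;> simp only [Sum.elim_inl, Sum.elim_inr] at e
    · obtain ⟨a1, b1, c1⟩ := hf1 C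
      obtain ⟨a2, b2, c2⟩ := hf1 C'
      rw [← e] at a2 b2 c2
      obtain ⟨φ, hQ, hg⟩ := oEquiv_of_data a1 a2 b1 b2 (c1.trans c2.symm)
        (Or.inr ((gauss_congr _ S.idSys (fun _ => rfl) ⊤).trans (gauss_congr _ S.idSys (fun _ => rfl) ⊤).symm))
      rw [← hrep C, ← hrep C', ConjClasses.mk_eq_mk_iff_isConj.2 (isConj_of_isometry S (rep C) (rep C') φ hQ hg)]
    · obtain ⟨a1, b1, c1⟩ := hf1 C
      obtain ⟨a2, b2, c2⟩ := hf2 h'
      have h0 := hzero h'
      rw [← e] at a2 b2 c2 h0
      obtain ⟨φ, hQ, -⟩ := oEquiv_of_data a2 a1 b2 b1 (c2.trans c1.symm) (Or.inl h0)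
      refine absurd ?_ hs0
      rw [← h'.2, ← hMg h']
      classical
      haveI : Fintype (Fin (2 * (m + 1)) → F) := inferInstance
      rw [gauss_top, gauss_top]
      exact Fintype.sum_bijective φ φ.bijective _ _ fun x => congrArg chi (hQ x).symm
    · obtain ⟨a1, b1, c1⟩ := hf1 C'
      obtain ⟨a2, b2, c2⟩ := hf2 h
      have h0 := hzero h
      rw [e] at a2 b2 c2 h0
      obtain ⟨φ, hQ, -⟩ := oEquiv_of_data a2 a1 b2 b1 (c2.trans c1.symm) (Or.inl h0)
      refine absurd ?_ hs0
      rw [← h.2, ← hMg h]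
      rw [gauss_top, gauss_top]
      exact Fintype.sum_bijective φ φ.bijective _ _ fun x => congrArg chi (hQ x).symm
    · obtain ⟨a1, b1, c1⟩ := hf2 h
      obtain ⟨a2, b2, c2⟩ := hf2 h'
      have h0 := hzero h
      rw [← e] at a2 b2 c2
      obtain ⟨φ, -, hg⟩ := oEquiv_of_data a1 a2 b1 b2 (c1.trans c2.symm) (Or.inl h0)
      have e2 : (M h').toSys.U = φ.conj (M h).toSys.U := by
        refine LinearMap.ext fun x => ?_
        obtain ⟨z, rfl⟩ := φ.surjective x
        show (M h').g (φ z) = φ ((M h).g (φ.symm (φ z)))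
        rw [φ.symm_apply_apply, hg]
      have hc := hMchar h'
      rw [e2, LinearEquiv.charpoly_conj, hMchar h] at hc
      exact congrArg Sum.inr (Subtype.ext (Subtype.ext (polyOf_injective hc)))
  have hcard : Nat.card (ConjClasses G) + Nat.card Bad ≤ ∑ L ∈ S', Fintype.card F ^ (m + 1 - weight L) := by
    rw [← Nat.card_sum]
    refine (Nat.card_le_card_of_injective _ hinj).trans ?_
    rw [Nat.card_sigma, ← Finset.sum_coe_sort S' (fun L => Fintype.card F ^ (m + 1 - weight L))]
    exact Finset.sum_le_sum fun L _ => (numT_le (F := F) _ _).1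
  have hq2 : 2 ≤ Fintype.card F := Fintype.one_lt_card
  set q := Fintype.card F with hqdef
  have hsum : ((∑ L ∈ S', q ^ (m + 1 - weight L) : ℕ) : ℚ) ≤ (q : ℚ) ^ (m + 1) * wsum Sf := by
    push_cast
    refine le_trans ?_ (mul_le_mul_of_nonneg_left (wsum_mono (Finset.filter_subset (fun L => weight L ≤ m + 1) Sf))
      (by positivity))
    rw [← hS', wsum, Finset.mul_sum]
    refine Finset.sum_le_sum fun L hL => ?_
    obtain ⟨d, hd⟩ : ∃ d, m + 1 = d + weight L := ⟨m + 1 - weight L, by
      have : weight L ≤ m + 1 := (Finset.mem_filter.1 hL).2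
      omega⟩
    rw [hd, Nat.add_sub_cancel, pow_add, mul_assoc, ← mul_pow]
    refine le_mul_of_one_le_right (by positivity) (one_le_pow₀ ?_)
    have : (2 : ℚ) ≤ q := by exact_mod_cast hq2
    linarith
  have hbad : q ^ (m + 1) ≤ 4 * Nat.card Bad := by
    have h2 := two_card_sign (F := F) (m := m) (by omega) s hs
    rw [card_hSet, ← hqdef] at h2
    have h3 : q * q ^ m ≤ 2 * ((q - 1) * q ^ m) := by
      rw [← mul_assoc]; exact Nat.mul_le_mul_right _ (by omega)
    have hpow : q ^ (m + 1) = q * q ^ m := pow_succ' q m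
    show q ^ (m + 1) ≤ 4 * Nat.card {h : HSet F m // chi (sgnArg (coefOf h.1) (m + 1)) = s}
    omega
  have h5 : ((5 * (Nat.card (ConjClasses G) + Nat.card Bad) : ℕ) : ℚ) ≤ ((76 * q ^ (m + 1) : ℕ) : ℚ) := by
    have h1 : ((Nat.card (ConjClasses G) + Nat.card Bad : ℕ) : ℚ) ≤
        ((∑ L ∈ S', q ^ (m + 1 - weight L) : ℕ) : ℚ) := by exact_mod_cast hcard
    have h2 : (q : ℚ) ^ (m + 1) * wsum Sf ≤ (q : ℚ) ^ (m + 1) * (76 / 5) :=
      mul_le_mul_of_nonneg_left hw (by positivity)
    push_cast at *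
    linarith
  have h6 : 5 * (Nat.card (ConjClasses G) + Nat.card Bad) ≤ 76 * q ^ (m + 1) := by exact_mod_cast h5
  show Nat.card (ConjClasses G) ≤ 15 * q ^ (m + 1)
  omega

/-- The lower bound. -/
theorem card_lower (hn : 2 ≤ n) (hι : Fintype.card ι = 2 * n) :
    Fintype.card F ^ n ≤ 2 * Nat.card (ConjClasses ↥(Cfsg.isometryGroup F S.Q)) := by
  classical
  obtain ⟨m, rfl⟩ : ∃ m, n = m + 2 := ⟨n - 2, by omega⟩
  have hdimι : Module.finrank F (ι → F) = 2 * (m + 2) := by rw [Module.finrank_fintype_fun_eq_card, hι]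
  set q := Fintype.card F with hqdef
  obtain ⟨s, hs, hs0⟩ : ∃ s : ℤ, (s = 1 ∨ s = -1) ∧ (q : ℤ) ^ (m + 2) * s = S.idSys.gauss ⊤ := by
    rcases gauss_top_sign S.idSys hdimι with h | h
    · exact ⟨1, Or.inl rfl, by rw [h, mul_one]⟩
    · exact ⟨-1, Or.inr rfl, by rw [h]; ring⟩
  let Good := {h : HSet F (m + 1) // chi (sgnArg (coefOf h.1) (m + 1 + 1)) = s}
  have hA : ∀ h : Good, ∃ A : ↥(Cfsg.isometryGroup F S.Q), LinearMap.charpoly (sysO S A).toSys.U = polyOf h.1.1 := by
    intro h
    obtain ⟨O, hc, -, hg⟩ := exists_model (e := m + 1 + 1) (by omega) h.1.1 (coefOf_last h.1)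
    obtain ⟨A, hA⟩ := exists_elem S (n := m + 1 + 1) hι (by rw [Module.finrank_fintype_fun_eq_card, Fintype.card_fin])
      O (by rw [hg, h.2]; exact hs0)
    exact ⟨A, hA.trans hc⟩
  let X1 : Polynomial F := Polynomial.X - 1
  have hB : ∀ h : HSet F m, ∃ A : ↥(Cfsg.isometryGroup F S.Q),
      LinearMap.charpoly (sysO S A).toSys.U = polyOf h.1 * X1 ^ 2 := by
    intro h
    obtain ⟨O, hc, -, hg⟩ := exists_model (e := m + 1) (by omega) h.1 (coefOf_last h)
    have hpm : chi (sgnArg (coefOf h.1) (m + 1)) = 1 ∨ chi (sgnArg (coefOf h.1) (m + 1)) = -1 := by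
      unfold chi; split_ifs <;> simp
    obtain ⟨β, hβ⟩ : ∃ β : F, chi β = s * chi (sgnArg (coefOf h.1) (m + 1)) := by
      rcases hpm with hp | hp <;> rw [hp] <;> rcases hs with rfl | rfl
      exacts [⟨0, by rw [chi_zero]; rfl⟩, ⟨delta F, by rw [chi_delta]; rfl⟩, ⟨delta F, by rw [chi_delta]; rfl⟩,
        ⟨0, by rw [chi_zero]; rfl⟩]
    obtain ⟨A, hA⟩ := exists_elem S (n := m + 2) hι (by
        rw [Module.finrank_prod, Module.finrank_fintype_fun_eq_card, Module.finrank_fintype_fun_eq_card,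
          Fintype.card_fin, Fintype.card_fin]
        omega)
      (O.prod (planeSp β).idSys) (by
        rw [gauss_prod, hg, gauss_planeSp, hβ, ← hs0, ← hqdef]
        rcases hpm with hp | hp <;> rw [hp] <;> ring)
    refine ⟨A, hA.trans ?_⟩
    rw [show (O.prod (planeSp β).idSys).toSys.U = LinearMap.prodMap O.toSys.U 1 from rfl,
      LinearMap.charpoly_prodMap, hc, LinearMap.charpoly_one, Module.finrank_fintype_fun_eq_card, Fintype.card_fin]
  choose A1 hA1 using hA
  choose A2 hA2 using hB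
  have hev : ∀ h : HSet F (m + 1), (polyOf h.1).eval 1 ≠ 0 := by
    intro h he
    obtain ⟨hm', hd, hco⟩ := polyOf_spec h.1
    have hsum : (polyOf h.1).eval 1 = coefOf h.1 (m + 1 + 1) := by
      rw [Polynomial.eval_eq_sum_range, hd,
        show 2 * (m + 1 + 1) + 1 = m + 1 + 1 + 1 + (m + 1 + 1) by ring, Finset.sum_range_add, Finset.sum_range_succ]
      simp only [one_pow, mul_one]
      have h2 : ∑ i ∈ Finset.range (m + 1 + 1), (polyOf h.1).coeff (m + 1 + 1 + 1 + i) =
          ∑ i ∈ Finset.range (m + 1 + 1), (polyOf h.1).coeff i := by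
        rw [← Finset.sum_range_reflect (fun i => (polyOf h.1).coeff i) (m + 1 + 1)]
        refine Finset.sum_congr rfl fun i hi => ?_
        have := Finset.mem_range.1 hi
        rw [hco _ (by omega), hco _ (by omega), ← coefOf_sym h.1 (m + 1 + 1 + 1 + i) (by omega)]
        congr 1
        omega
      rw [h2, hco (m + 1 + 1) (by omega), add_comm (∑ i ∈ Finset.range (m + 1 + 1), (polyOf h.1).coeff i)
        (coefOf h.1 (m + 1 + 1)), add_assoc, CharTwo.add_self_eq_zero, add_zero]
    exact coefOf_last h (hsum ▸ he)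
  have hinj : Function.Injective (Sum.elim (fun h => ConjClasses.mk (A1 h)) fun h => ConjClasses.mk (A2 h)) := by
    rintro (h | h) (h' | h') e <;> simp only [Sum.elim_inl, Sum.elim_inr] at e <;>
      have e' := charpoly_conj S (ConjClasses.mk_eq_mk_iff_isConj.1 e)
    · rw [hA1, hA1] at e'
      exact congrArg Sum.inl (Subtype.ext (Subtype.ext (polyOf_injective e')))
    · rw [hA1, hA2] at e'
      exact absurd (by rw [e']; simp [X1]) (hev h.1)
    · rw [hA2, hA1] at e'
      exact absurd (by rw [← e']; simp [X1]) (hev h'.1)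
    · rw [hA2, hA2] at e'
      refine congrArg Sum.inr (Subtype.ext (polyOf_injective (mul_right_cancel₀ (pow_ne_zero 2 ?_) e')))
      show Polynomial.X - 1 ≠ (0 : Polynomial F)
      rw [← Polynomial.C_1]
      exact Polynomial.X_sub_C_ne_zero 1
  have hcard := Nat.card_le_card_of_injective _ hinj
  rw [Nat.card_sum, card_hSet] at hcard
  have h2 := two_card_sign (F := F) (m := m + 1) (by omega) s hs
  rw [card_hSet, ← hqdef] at h2
  rw [← hqdef] at hcard
  have hq2 : 2 ≤ q := Fintype.one_lt_card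
  obtain ⟨a, ha⟩ : ∃ a, q = a + 2 := ⟨q - 2, by omega⟩
  have hkey : q ^ (m + 2) ≤ (q - 1) * q ^ (m + 1) + 2 * ((q - 1) * q ^ m) := by
    rw [show q - 1 = a + 1 by omega, pow_succ q (m + 1), pow_succ q m]
    rw [ha]
    nlinarith [Nat.zero_le ((a + 2) ^ m * a)]
  show q ^ (m + 2) ≤ _
  have : 2 * Nat.card Good + 2 * ((q - 1) * q ^ m) ≤ 2 * Nat.card (ConjClasses ↥(Cfsg.isometryGroup F S.Q)) := by
    omega
  have h2' : 2 * Nat.card Good = (q - 1) * q ^ (m + 1) := h2
  omega

end target

end Cfsg.Agent.Small.SpEven
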